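import Groth.Agent.EtDl.K555.BlowDim
import Groth.Agent.S2889
import Groth.Agent.Divis.RegStalk
import Groth.Agent.Divis.RegImm
import Groth.Agent.Flat2C.BlowProper
import Groth.Agent.Sga5.H855.Geom

/-!
# Geometry of the blow-up of a regular pair

`X` locally Noetherian regular, `i : Y ⟶ X` closed with `Y` regular: `i` is a regular closed immersion, the blow-up
is proper, locally Noetherian and regular, the exceptional divisor is regular of codimension one.
-/

set_option autoImplicit false
universe u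

open CategoryTheory CategoryTheory.Limits AlgebraicGeometry BlowUp

namespace K555.BlowGeo

open Groth.Agent Groth.Agent.Divis.CartierBasic Groth.Agent.Divis.CartierStalk

theorem isRegularClosedImmersion {X Y : Scheme.{u}} [IsLocallyNoetherian X] (i : Y ⟶ X) [IsClosedImmersion i]
    (hreg : ∀ y : Y, IsRegularLocalRing (X.presheaf.stalk (i y)))
    (hYreg : ∀ y : Y, IsRegularLocalRing (Y.presheaf.stalk y)) : Mor2.IsRegularClosedImmersion i := by
  rw [Divis.RegImm.isRegularClosedImmersion_iff]
  refine ⟨inferInstance, fun y => ?_⟩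
  rw [← Divis.RegStalk.exists_isRegularClosedImmersion_iff]
  have := hYreg y
  exact (Groth.Agent.S2889.result i y).2 (hreg y)

theorem isFiniteTypeIdeal {X : Scheme.{u}} [IsLocallyNoetherian X] (I : X.IdealSheafData) :
    IsFiniteTypeIdeal I := fun U => by
  have := IsLocallyNoetherian.component_noetherian U
  exact IsNoetherian.noetherian _

theorem isProper {X X' : Scheme.{u}} [IsLocallyNoetherian X] {I : X.IdealSheafData} {b : X' ⟶ X}
    (hb : IsBlowUp b I) : IsProper b :=
  Flat2C.BlowProper.isProper_of_isBlowUp hb (isFiniteTypeIdeal I)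

/-- **The blow-up of a regular scheme along a regular centre is regular.** -/
theorem regular_blowUp {X Y X' : Scheme.{u}} [IsLocallyNoetherian X]
    (hX : ∀ x : X, IsRegularLocalRing (X.presheaf.stalk x)) (i : Y ⟶ X)
    (hi : Mor2.IsRegularClosedImmersion i)
    (hY : ∀ y : Y, IsRegularLocalRing (Y.presheaf.stalk y)) {b : X' ⟶ X}
    (hb : IsBlowUp b i.ker) (x' : X') : IsRegularLocalRing (X'.presheaf.stalk x') := by
  have : IsClosedImmersion i := hi.1
  by_cases hx : b x' ∈ Set.range i
  · obtain ⟨y, hy⟩ := hx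
    exact Sga67.BlowReg.regular_blowUp i hi hY hb x' y hy
  · have hx2 : b x' ∉ i.ker.support := by
      intro h
      apply hx
      have h2 : (i.ker.support : Set X) = Set.range i := by
        rw [Scheme.Hom.support_ker]
        exact i.isClosedEmbedding.isClosed_range.closure_eq
      rw [← h2]
      exact h
    have := Divis.BlowUpFormal.isIso_morphismRestrict_compl_support hb i.ker.support.compl
      disjoint_compl_left
    have e1 : Scheme.Opens.ι (b ⁻¹ᵁ i.ker.support.compl) ≫ b =
        b ∣_ i.ker.support.compl ≫ Scheme.Opens.ι i.ker.support.compl := by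
      rw [morphismRestrict_ι]
    have hO : IsOpenImmersion (Scheme.Opens.ι (b ⁻¹ᵁ i.ker.support.compl) ≫ b) := by
      rw [e1]; infer_instance
    have h3 := (Sga67.BlowReg.regular_stalk_iff
      (Scheme.Opens.ι (b ⁻¹ᵁ i.ker.support.compl) ≫ b) ⟨x', hx2⟩).1 (hX _)
    exact (Sga67.BlowReg.regular_stalk_iff (Scheme.Opens.ι (b ⁻¹ᵁ i.ker.support.compl)) ⟨x', hx2⟩).2 h3

theorem codim_one {X' E : Scheme.{u}} [IsLocallyNoetherian X'] (i' : E ⟶ X') [IsClosedImmersion i']
    (h : IsEffCartierIdeal i'.ker) (z : E) :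
    ringKrullDim (X'.presheaf.stalk (i' z)) = ringKrullDim (E.presheaf.stalk z) + 1 := by
  obtain ⟨U, hz, a, ha, hU⟩ := h (i' z)
  have h1 := BlowDim.length_eq i' U.2 z hz [a] ?_ (by rw [Ideal.ofList_singleton]; exact hU)
  · simpa using h1
  · rw [RingTheory.Sequence.isWeaklyRegular_singleton_iff, isSMulRegular_iff_right_eq_zero_of_smul]
    intro x hx
    rw [mem_nonZeroDivisors_iff_left] at ha
    exact ha x hx

/-- The section over an open immersion onto the complement. -/
theorem exists_section {X Y X' U : Scheme.{u}} (i : Y ⟶ X) [IsClosedImmersion i] {b : X' ⟶ X}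
    (hb : IsBlowUp b i.ker) (j : U ⟶ X) [IsOpenImmersion j] (hj : Set.range j = (Set.range i)ᶜ) :
    ∃ s : U ⟶ X', IsPullback s (𝟙 _) b j := by
  have := Sga5.H855.Geom.isIso_over_compl i hb
  obtain ⟨s, hs⟩ := Sga5.H855.Geom.exists_section b (Sga5.H855.Geom.compl i)
  have hr : Set.range j = Set.range (Sga5.H855.Geom.compl i).ι := by
    rw [hj, Sga5.H855.Geom.range_compl_ι]
  let e := IsOpenImmersion.isoOfRangeEq j (Sga5.H855.Geom.compl i).ι hr
  have he : e.hom ≫ (Sga5.H855.Geom.compl i).ι = j := IsOpenImmersion.isoOfRangeEq_hom_fac _ _ _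
  exact ⟨e.hom ≫ s, hs.of_iso e.symm (Iso.refl _) e.symm (Iso.refl _) (by simp) (by simp) (by simp)
    (by simp [← he])⟩

/-- All the geometry of the blow-up of a regular pair. -/
theorem exists_blowUp {X Y U : Scheme.{u}} [IsLocallyNoetherian X] (i : Y ⟶ X) [IsClosedImmersion i]
    (hreg : ∀ x : X, IsRegularLocalRing (X.presheaf.stalk x))
    (hYreg : ∀ y : Y, IsRegularLocalRing (Y.presheaf.stalk y))
    (j : U ⟶ X) [IsOpenImmersion j] (hj : Set.range j = (Set.range i)ᶜ) (e : ℕ)
    (hcodim : ∀ y : Y, ringKrullDim (X.presheaf.stalk (i y)) = ringKrullDim (Y.presheaf.stalk y) + (e + 1 : ℕ)) :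
    ∃ (X' : Scheme.{u}) (b : X' ⟶ X) (E : Scheme.{u}) (i' : E ⟶ X') (π : E ⟶ Y) (s : U ⟶ X'),
      IsProper b ∧ IsLocallyNoetherian X' ∧ (∀ x : X', IsRegularLocalRing (X'.presheaf.stalk x)) ∧
      IsClosedImmersion i' ∧ IsPullback i' π b i ∧ IsPullback s (𝟙 _) b j ∧
      (∀ x : E, IsRegularLocalRing (E.presheaf.stalk x)) ∧
      (∀ z : E, ringKrullDim (X'.presheaf.stalk (i' z)) = ringKrullDim (E.presheaf.stalk z) + 1) ∧
      (∀ x : X, topologicalKrullDim (b.fiber x) ≤ e) := by
  obtain ⟨X', b, hb⟩ := Flat2C.BlowExist.exists_isBlowUp i.ker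
  have hi := isRegularClosedImmersion i (fun y => hreg _) hYreg
  have h1 := isProper hb
  have h2 : IsLocallyNoetherian X' := LocallyOfFiniteType.isLocallyNoetherian b
  have h3 := regular_blowUp hreg i hi hYreg hb
  have hE : IsPullback (pullback.fst b i) (pullback.snd b i) b i := IsPullback.of_hasPullback b i
  have h4 := Sga67.BlowReg.regular_exceptional i hi hYreg hb (pullback.fst b i) (pullback.snd b i) hE
  have h5 : IsEffCartierIdeal (pullback.fst b i).ker := by
    rw [Sga67.BlowReg.ker_of_isPullback hE]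
    exact hb.1
  obtain ⟨s, hs⟩ := exists_section i hb j hj
  exact ⟨X', b, _, pullback.fst b i, pullback.snd b i, s, h1, h2, h3, inferInstance, hE, hs, h4,
    codim_one _ h5, BlowDim.topologicalKrullDim_fiber_le i hi hYreg e hcodim hb⟩

end K555.BlowGeo
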