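import Mathlib.AlgebraicGeometry.Pullbacks
import Mathlib.Algebra.Category.Ring.Constructions
import Mathlib.RingTheory.Localization.Away.Basic

/-!
# The cartesian square of principal localizations, with a prescribed horizontal morphism
-/

set_option autoImplicit false
universe u

open CategoryTheory CategoryTheory.Limits AlgebraicGeometry

namespace K555.AwaySq

/-- The square `Spec A_y ⟶ Spec R_τ` over `Spec A ⟶ Spec R` is cartesian if `τ ↦ y`. -/
theorem isPullback {R A : Type u} [CommRing R] [CommRing A] (a : R →+* A) (τ : R) (y : A) (hy : a τ = y)
    (fm : Localization.Away τ →+* Localization.Away y)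
    (hfm : fm.comp (algebraMap R (Localization.Away τ)) = (algebraMap A (Localization.Away y)).comp a) :
    IsPullback (Spec.map (CommRingCat.ofHom fm)) (Spec.map (CommRingCat.ofHom (algebraMap A (Localization.Away y))))
      (Spec.map (CommRingCat.ofHom (algebraMap R (Localization.Away τ)))) (Spec.map (CommRingCat.ofHom a)) := by
  have hM : (Submonoid.powers τ).map a = Submonoid.powers y := by
    rw [Submonoid.map_powers]
    exact congrArg Submonoid.powers hy
  have hloc : IsLocalization ((Submonoid.powers τ).map a) (Localization.Away y) := by
    rw [hM]; infer_instance
  have h1 := CommRingCat.isPushout_of_isLocalization a fm hfm (Submonoid.powers τ)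
  exact (isPullback_SpecMap_of_isPushout _ _ _ _ h1).flip

theorem awayMap_comp {R A : Type u} [CommRing R] [CommRing A] (a : R →+* A) (τ : R) :
    (Localization.awayMap a τ).comp (algebraMap R (Localization.Away τ)) =
      (algebraMap A (Localization.Away (a τ))).comp a :=
  IsLocalization.map_comp _

end K555.AwaySq
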