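import Groth.Agent.EtDl.K555.CdExc
import Groth.Agent.EtDl.K555.AwaySq
import Groth.Agent.Etdl.H435.Final
import Groth.Agent.Etdl.H435.FinLem
import Groth.Agent.Etdl.H438.PowAsm
import Groth.Agent.Etdl.H438.SLocBC
import Groth.Agent.Etdl.H428.RegBC
import Groth.Agent.Etdl.H428.CdLower
import Groth.Agent.Etcore.HpullCalc
import Groth.Agent.CalgB.CohenSq2
import Groth.Agent.Pi1A.LefExt
import Groth.Agent.SGA1.K151.AnRed
import Groth.Agent.Ega43.ResSysSch
import Groth.Agent.Etbc.H212.Lim
import Groth.Agent.S0547
import Groth.Agent.S0543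

/-!
# Cohomological dimension of principal open subsets of strictly henselian excellent local `ℚ`-schemes

`cohDimLE_away`: `cd(Spec A_f) ≤ dim A` for `A` strictly henselian local with regular completion map over `ℚ`.
`cdSH`: `CdSH`.
-/

set_option autoImplicit false
universe u
open CategoryTheory CategoryTheory.Limits AlgebraicGeometry Opposite IsLocalRing

namespace K555.CdStrict

open Groth.Agent Groth.Agent.Etcore

/-- Complete local rings. -/
theorem cohDimLE_complete (C : Type u) [CommRing C] [IsLocalRing C] [IsNoetherianRing C]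
    [IsAdicComplete (maximalIdeal C) C] [IsSepClosed (ResidueField C)] [CharZero (ResidueField C)]
    (d : ℕ) (hd : ringKrullDim C ≤ d) (f : C) (S : Type u) [CommRing S] [Algebra C S] [IsLocalization.Away f S] :
    EtCoh.CohDimLE (Spec (CommRingCat.of S)) d := by
  obtain ⟨v, hv⟩ := Groth.Agent.CalgB.CohenSq2.exists_coefficientField (A := C)
  let _ : Algebra (ResidueField C) C := v.toAlgebra
  have hK : IsAlgClosed (ResidueField C) := inferInstance
  have hgood : Etdl.H435.Defs.GoodRing (ResidueField C) C :=
    { isLocalRing := inferInstance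
      isNoetherianRing := inferInstance
      isAdicComplete := inferInstance
      residue_surjective := fun x => ⟨x, by
        change residue C (v x) = x
        exact congrArg (fun g : ResidueField C →+* ResidueField C => g x) hv⟩ }
  exact Etdl.H435.FinLem.cohDimLE_away (ResidueField C) C d hd (fun j _ => Etdl.H435.Final.SX_all j) f S

/-- Principal open subsets of strictly henselian local schemes. -/
theorem cohDimLE_away (A : Type u) [CommRing A] [HenselianLocalRing A] [IsSepClosed (ResidueField A)]
    [IsNoetherianRing A] [Algebra ℚ A]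
    (hA : CAlg.IsRegularHom A (AdicCompletion (maximalIdeal A) A))
    (d : ℕ) (hd : ringKrullDim A ≤ d) (f : A) :
    EtCoh.CohDimLE (Spec (CommRingCat.of (Localization.Away f))) d := by
  let C := AdicCompletion (maximalIdeal A) A
  have i1 : IsNoetherianRing C := Groth.Agent.S0543.result _ _
  have i2 : IsAdicComplete (maximalIdeal C) C := K151.AnRed.isAdicComplete_cpl A
  have i3 : HenselianLocalRing C := Groth.Agent.Pi1A.LefExt.henselianLocalRing_of_isAdicComplete _
  have hs : Function.Surjective (ResidueField.map (algebraMap A C)) := by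
    intro x
    obtain ⟨a, ha⟩ := K151.AnRed.surjective_residue_cpl A x
    exact ⟨residue A a, ha⟩
  have i4 : IsSepClosed (ResidueField C) := CdExc.isSepClosed_of_ringEquiv
    (RingEquiv.ofBijective (ResidueField.map (algebraMap A C)) ⟨RingHom.injective _, hs⟩)
  let _ : Algebra ℚ C := ((algebraMap A C).comp (algebraMap ℚ A)).toAlgebra
  have i5 : CharZero (ResidueField C) :=
    charZero_of_injective_algebraMap ((residue C).comp (algebraMap ℚ C)).injective
  intro F hF q hq
  have hT : EtPBC.IsTorsionInvertibleOn (Spec (CommRingCat.of A)) F :=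
    Groth.Agent.Etdl.H438.PowAsm.isTorsionInvertibleOn_of_isTorsion A
      (fun n hn => by
        have h : IsUnit (n : ℚ) := isUnit_iff_ne_zero.2 (Nat.cast_ne_zero.2 hn.ne')
        have h1 := h.map (algebraMap ℚ A)
        rwa [map_natCast] at h1) F hF
  let j : Spec (CommRingCat.of (Localization.Away f)) ⟶ Spec (CommRingCat.of A) :=
    Spec.map (CommRingCat.ofHom (algebraMap A (Localization.Away f)))
  let y : C := algebraMap A C f
  let j' : Spec (CommRingCat.of (Localization.Away y)) ⟶ Spec (CommRingCat.of C) :=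
    Spec.map (CommRingCat.ofHom (algebraMap C (Localization.Away y)))
  let g' : Spec (CommRingCat.of (Localization.Away y)) ⟶ Spec (CommRingCat.of (Localization.Away f)) :=
    Spec.map (CommRingCat.ofHom (Localization.awayMap (algebraMap A C) f))
  have sq : IsPullback g' j' j (Spec.map (CommRingCat.ofHom (algebraMap A C))) :=
    AwaySq.isPullback (algebraMap A C) f y rfl (Localization.awayMap (algebraMap A C) f)
      (AwaySq.awayMap_comp (algebraMap A C) f)
  have hpfl : PreservesFiniteLimits (EtCoh.pull g') := Groth.Agent.S0101.result g'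
  have hloc : IsLocalHom (algebraMap A C) := inferInstance
  have key := fun (G : EtCoh.Ab (Spec (CommRingCat.of (Localization.Away f))))
      (hG : EtPBC.IsTorsionInvertibleOn (Spec (CommRingCat.of A)) G) (q : ℕ) =>
    Groth.Agent.Etdl.H428.RegBC.baseChange_of_isRegularHom hA j j' g' sq G hG q
  have hbij := Groth.Agent.Etdl.H438.SLocBC.bijective_hp
    (Groth.Agent.Etdl.H438.PowAsm.map_closedPoint (algebraMap A C)) j j' g' sq.w
    (fun G hG => (key G hG 0).2)
    (fun G hG hz q hq => ((EtCoh.pull _).map_isZero (hz q hq)).of_iso (key G hG q).1.some.symm) F hT q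
  have hsub : Subsingleton (EtCoh.H _ ((EtCoh.pull g').obj F) q) :=
    cohDimLE_complete C d (by rw [Groth.Agent.S0547.result]; exact hd) y _ _
      (Groth.Agent.Etcore.Torsion.isTorsion_pull g' F hF) q hq
  exact hbij.1.subsingleton

/-- The fraction field. -/
theorem cohDimLE_fractionRing (A : Type u) [CommRing A] [IsDomain A] (ℓ d : ℕ) (hℓ : ℓ ≠ 0)
    (h : ∀ f : A, f ≠ 0 → EtCoh.CohDimLE (Spec (CommRingCat.of (Localization.Away f))) d) :
    Dix.CohDimLEAt (Spec (CommRingCat.of (FractionRing A))) ℓ d := by
  let p : Ideal A := ⊥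
  have hp : p.IsPrime := Ideal.isPrime_bot
  have h1 := Groth.Agent.Etbc.H212.Lim.cohDimLEAt_limit (Groth.Agent.Ega43.ResSysSch.diag p)
    (Groth.Agent.Ega43.ResSysSch.cone p (FractionRing (A ⧸ p)))
    (Groth.Agent.Ega43.ResSysSch.isLimit p (FractionRing (A ⧸ p))) ℓ d (fun a => by
      let j := a.unop
      have hnum : Groth.Agent.Ega43.ResSys.num j = ⊥ := le_bot_iff.1 (Groth.Agent.Ega43.ResSys.num_le j)
      have hden : Groth.Agent.Ega43.ResSys.den j ≠ 0 := fun h0 =>
        Groth.Agent.Ega43.ResSys.den_notMem j (by rw [h0]; exact p.zero_mem)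
      have hb : Function.Bijective (Ideal.Quotient.mk (Groth.Agent.Ega43.ResSys.num j)) := by
        refine ⟨?_, Ideal.Quotient.mk_surjective⟩
        rw [RingHom.injective_iff_ker_eq_bot, Ideal.mk_ker, hnum]
      let e : A ≃+* (A ⧸ Groth.Agent.Ega43.ResSys.num j) := RingEquiv.ofBijective _ hb
      have hM : Submonoid.powers (Ideal.Quotient.mk (Groth.Agent.Ega43.ResSys.num j)
          (Groth.Agent.Ega43.ResSys.den j)) =
          (Submonoid.powers (Groth.Agent.Ega43.ResSys.den j)).map (e : A ≃+* _).toMonoidHom := by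
        rw [Submonoid.map_powers]
        rfl
      have e2 : Localization.Away (Groth.Agent.Ega43.ResSys.den j) ≃+* Groth.Agent.Ega43.ResSys.Stage j :=
        IsLocalization.ringEquivOfRingEquiv (Localization.Away (Groth.Agent.Ega43.ResSys.den j))
          (Groth.Agent.Ega43.ResSys.Stage j) e hM.symm
      exact Groth.Agent.Etbc.H227.CdIso.cohDimLEAt_of_ringEquiv e2 ℓ d
        (Groth.Agent.Etdl.H428.CdLower.cohDimLEAt_of_cohDimLE (h _ hden) ℓ hℓ))
  refine Groth.Agent.Etbc.H227.CdIso.cohDimLEAt_of_ringEquiv ?_ ℓ d h1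
  exact (IsFractionRing.ringEquivOfRingEquiv (RingEquiv.quotientBot A))

/-- The strictly henselian case. -/
theorem cdSH : CdExc.CdSH.{u} := by
  intro A _ _ _ _ _ hA d hd ℓ hℓ
  have hN : IsNoetherianRing A := hA.1
  exact cohDimLE_fractionRing A ℓ d hℓ.ne_zero fun f _ => cohDimLE_away A
    ((Groth.Agent.CalgB.GRing2.isGRing_iff_of_isLocalRing A).1 hA.2.2.1) d hd.le f

end K555.CdStrict
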