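import Mathlib.Algebra.CharP.Algebra
import Mathlib.Algebra.Ring.ULift
import Mathlib.Algebra.Field.ULift
import Mathlib.Data.Rat.Cast.CharZero

/-!
# `ULift ℚ` has characteristic zero
-/

set_option autoImplicit false
universe u

namespace K555.ULiftQ

theorem charZero : CharZero (ULift.{u} ℚ) :=
  charZero_of_injective_ringHom (f := (ULift.ringEquiv (R := ℚ)).symm.toRingHom)
    (ULift.ringEquiv (R := ℚ)).symm.injective

end K555.ULiftQ
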