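import Groth.Agent.EtpbcB.BCMorField
import Groth.Agent.Sga2lef.H101.SmLimBC
import Groth.Agent.Etdl.H428.SmLim
import Groth.Agent.CalgB.RegHom7
import Groth.Prelude.Def_EtDepth

/-!
# Regular morphisms of locally Noetherian schemes satisfy universal base change

* `ubc_of_isRegularHom` : the spectrum of a regular homomorphism of Noetherian rings;
* `ubc_fromSpecStalk` : `Spec O_{X,x} ⟶ X` for `X` locally Noetherian;
* `ubc_of_isRegularMor` : a regular morphism (`EtDepth.IsRegularMor`) of locally Noetherian schemes.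
-/

set_option autoImplicit false
universe u
open CategoryTheory CategoryTheory.Limits AlgebraicGeometry Opposite

namespace K555.RegMor

open EtCoh Groth.Agent.EtpbcB.BCU Groth.Agent.Sga2lef.H101 Groth.Agent

/-- The spectrum of a regular homomorphism of Noetherian rings satisfies universal base change. -/
theorem ubc_of_isRegularHom {R L : Type u} [CommRing R] [CommRing L] [IsNoetherianRing R]
    [IsNoetherianRing L] (φ : R →+* L) (h : @CAlg.IsRegularHom R _ L _ φ.toAlgebra) {S : Scheme.{u}}
    (s : Spec (CommRingCat.of R) ⟶ S) : UBC S (Spec.map (CommRingCat.ofHom φ)) := by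
  let _ := φ.toAlgebra
  exact SmLimBC.ubc_of_indSmooth (Groth.Agent.Etdl.H428.SmLim.indSmooth_of_isRegularHom h) s

/-- `Spec O_{X,x} ⟶ X` satisfies universal base change. -/
theorem ubc_fromSpecStalk (X : Scheme.{u}) [IsLocallyNoetherian X] (x : X) {S : Scheme.{u}}
    (s : X ⟶ S) : UBC S (X.fromSpecStalk x) := by
  obtain ⟨U, hU, hxU, -⟩ := exists_isAffineOpen_mem_and_subset (U := (⊤ : X.Opens)) (x := x) trivial
  rw [← hU.fromSpecStalk_eq_fromSpecStalk hxU]
  have h1 : IsNoetherianRing Γ(X, U) := IsLocallyNoetherian.component_noetherian ⟨U, hU⟩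
  let _ := X.presheaf.algebra_section_stalk ⟨x, hxU⟩
  have h2 : IsLocalization.AtPrime (X.presheaf.stalk x) (hU.primeIdealOf ⟨x, hxU⟩).asIdeal :=
    hU.isLocalization_stalk ⟨x, hxU⟩
  have h3 : UBC S hU.fromSpec := UBC.of_smooth s hU.fromSpec
  refine UBC.comp h3 ?_
  refine ubc_of_isRegularHom (X.presheaf.germ U x hxU).hom ?_ (hU.fromSpec ≫ s)
  exact Groth.Agent.CalgB.RegHom7.isRegularHom_of_isLocalization (X.presheaf.stalk x)
    (hU.primeIdealOf ⟨x, hxU⟩).asIdeal.primeCompl

/-- A regular morphism of locally Noetherian schemes satisfies universal base change. -/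
theorem ubc_of_isRegularMor {X' X : Scheme.{u}} [IsLocallyNoetherian X] [IsLocallyNoetherian X']
    (g : X' ⟶ X) (hg : EtDepth.IsRegularMor g) {S : Scheme.{u}} (s : X ⟶ S) : UBC S g := by
  refine UBC.of_cover s (fun x' : X' => X'.fromSpecStalk x') (fun x => ?_)
    (fun x' => ubc_fromSpecStalk X' x' (g ≫ s)) fun x' => ?_
  · exact ⟨x, IsLocalRing.closedPoint _, Scheme.fromSpecStalk_closedPoint⟩
  · rw [← Scheme.SpecMap_stalkMap_fromSpecStalk]
    exact (ubc_fromSpecStalk X _ s).comp (ubc_of_isRegularHom _ (hg x') (X.fromSpecStalk _ ≫ s))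

end K555.RegMor
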