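import Groth.Agent.EtDl.K556.GoodDef
import Groth.Agent.Mor.K383.GSch
import Groth.Agent.S2651
import Groth.Agent.S12460
import Groth.Agent.S0553
import Groth.Agent.S9126

/-!
# Excellence is local; `ExcQ` passes to schemes of finite type

* `isExcellent_of_local`: a locally Noetherian scheme covered by affine opens with excellent rings has all its affine
  opens excellent.
* `ExcQ.of_finiteType`: `ExcQ` passes to schemes of finite type.
* `ExcQ.spec`, `ExcQ.of_top`.
-/

set_option autoImplicit false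
universe u

open CategoryTheory CategoryTheory.Limits AlgebraicGeometry

namespace K555.ExcFT

open K556.GoodDef

/-- Excellence can be checked on an affine open cover. -/
theorem isExcellent_of_local {X : Scheme.{u}} [IsLocallyNoetherian X]
    (h : ∀ x : X, ∃ U : X.affineOpens, x ∈ U.1 ∧ EGA4.IsExcellent Γ(X, U.1)) (V : X.affineOpens) :
    EGA4.IsExcellent Γ(X, V.1) := by
  have hN : IsNoetherianRing Γ(X, V.1) := IsLocallyNoetherian.component_noetherian V
  refine ⟨hN, ?_, ?_, ?_⟩
  · rw [Groth.Agent.S0553.result]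
    intro m hm
    -- the point of `V` corresponding to `m`
    obtain ⟨x, hx⟩ : ∃ x : V.1, V.2.primeIdealOf x = ⟨m, hm.isPrime⟩ := by
      refine ⟨⟨V.2.fromSpec (⟨m, hm.isPrime⟩ : PrimeSpectrum Γ(X, V.1)), ?_⟩, ?_⟩
      · have := V.2.range_fromSpec
        change _ ∈ (V.1 : Set X)
        rw [← this]
        exact ⟨_, rfl⟩
      · apply V.2.fromSpec.isOpenEmbedding.injective
        rw [V.2.fromSpec_primeIdealOf]
    have hloc := V.2.isLocalization_stalk x
    rw [hx] at hloc
    let e : Localization.AtPrime m ≃ₐ[Γ(X, V.1)] X.presheaf.stalk x :=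
      IsLocalization.algEquiv m.primeCompl _ _
    obtain ⟨U, hxU, hU⟩ := h x.1
    let _ : Algebra Γ(X, U.1) (X.presheaf.stalk x.1) := (X.presheaf.germ U.1 x.1 hxU).hom.toAlgebra
    have hloc' : IsLocalization.AtPrime (X.presheaf.stalk x.1) (U.2.primeIdealOf ⟨x.1, hxU⟩).asIdeal :=
      U.2.isLocalization_stalk ⟨x.1, hxU⟩
    have h1 : Algebra.EssFiniteType Γ(X, U.1) (X.presheaf.stalk x.1) :=
      Algebra.EssFiniteType.of_isLocalization (X.presheaf.stalk x.1)
        (U.2.primeIdealOf ⟨x.1, hxU⟩).asIdeal.primeCompl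
    have h2 : CAlg.IsUniversallyCatenary (X.presheaf.stalk x.1) :=
      Groth.Agent.S9126.result Γ(X, U.1) (X.presheaf.stalk x.1) hU.2.1
    let _ : Algebra (X.presheaf.stalk x.1) (Localization.AtPrime m) := e.symm.toRingEquiv.toRingHom.toAlgebra
    have h3 : Algebra.FiniteType (X.presheaf.stalk x.1) (Localization.AtPrime m) :=
      RingHom.FiniteType.of_surjective (f := (e.symm.toRingEquiv : X.presheaf.stalk x.1 →+* Localization.AtPrime m))
        e.symm.surjective
    exact Groth.Agent.S9126.result (X.presheaf.stalk x.1) _ h2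
  · refine Groth.Agent.Mor.K383.GSch.isGRing_of_regAt V.2 hN fun x _ => ?_
    obtain ⟨U, hxU, hU⟩ := h x
    exact Groth.Agent.Mor.K383.GSch.regAt_of_isGRing U.2 hU.2.2.1 ⟨x, hxU⟩
  · have h1 := Groth.Agent.S12460.result X
    exact h1.1.1 (h1.2.2 fun x => by
      obtain ⟨U, hxU, hU⟩ := h x
      exact ⟨U, hxU, hU.2.2.2⟩) V

/-- `ExcQ` passes to schemes of finite type. -/
theorem _root_.K556.GoodDef.ExcQ.of_finiteType {X Y : Scheme.{u}} (hX : ExcQ X) (f : Y ⟶ X) [LocallyOfFiniteType f]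
    [QuasiCompact f] : ExcQ Y := by
  have hN := hX.noeth
  have hNY : IsLocallyNoetherian Y := LocallyOfFiniteType.isLocallyNoetherian f
  have hC : CompactSpace Y := QuasiCompact.compactSpace_of_compactSpace f
  refine ⟨{ }, hX.rat.map fun q => f ≫ q, isExcellent_of_local fun y => ?_⟩
  obtain ⟨V, hV, hyV, -⟩ := exists_isAffineOpen_mem_and_subset (x := f y) (U := ⊤) trivial
  obtain ⟨W, hW, hyW, hWV⟩ := exists_isAffineOpen_mem_and_subset (x := y) (U := f ⁻¹ᵁ V) hyV
  refine ⟨⟨W, hW⟩, hyW, ?_⟩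
  have h1 := f.finiteType_appLE hV hW hWV
  algebraize [(f.appLE V W hWV).hom]
  exact Groth.Agent.S2651.result Γ(X, V) (hX.exc ⟨V, hV⟩) Γ(Y, W)

/-- Invariance under ring isomorphisms. -/
theorem isExcellent_of_ringEquiv {A B : Type u} [CommRing A] [CommRing B] (e : A ≃+* B)
    (hA : EGA4.IsExcellent A) : EGA4.IsExcellent B := by
  let _ : Algebra A B := (e : A →+* B).toAlgebra
  have h3 : Algebra.FiniteType A B :=
    RingHom.FiniteType.of_surjective (f := (e : A →+* B)) e.surjective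
  exact Groth.Agent.S2651.result A hA B

theorem _root_.K556.GoodDef.ExcQ.of_isAffine {X : Scheme.{u}} [IsAffine X]
    (q : Nonempty (X ⟶ Spec (CommRingCat.of (ULift.{u} ℚ)))) (h : EGA4.IsExcellent Γ(X, ⊤)) : ExcQ X := by
  have h0 := h.1
  have hN0 : IsLocallyNoetherian X := LocallyOfFiniteType.isLocallyNoetherian X.isoSpec.hom
  have hN : IsNoetherian X := { }
  exact ⟨hN, q, isExcellent_of_local fun x => ⟨⟨⊤, isAffineOpen_top X⟩, trivial, h⟩⟩

/-- The spectrum of an excellent `ℚ`-algebra. -/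
theorem _root_.K556.GoodDef.ExcQ.spec (R : Type u) [CommRing R] [Algebra ℚ R] (h : EGA4.IsExcellent R) :
    ExcQ (Spec (CommRingCat.of R)) := by
  refine ExcQ.of_isAffine ⟨Spec.map (CommRingCat.ofHom ((algebraMap ℚ R).comp
    (ULift.ringEquiv (R := ℚ) : ULift.{u} ℚ ≃+* ℚ).toRingHom))⟩ ?_
  exact isExcellent_of_ringEquiv (Scheme.ΓSpecIso (CommRingCat.of R)).symm.commRingCatIsoToRingEquiv h

/-- Excellence of the ring of an affine `ExcQ`. -/
theorem _root_.K556.GoodDef.ExcQ.isExcellent_of_spec {R : Type u} [CommRing R] (h : ExcQ (Spec (CommRingCat.of R))) :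
    EGA4.IsExcellent R :=
  isExcellent_of_ringEquiv (Scheme.ΓSpecIso (CommRingCat.of R)).commRingCatIsoToRingEquiv
    (h.exc ⟨⊤, isAffineOpen_top _⟩)

theorem _root_.K556.GoodDef.ExcQ.isNoetherian {X : Scheme.{u}} (h : ExcQ X) : IsNoetherian X := h.noeth

end K555.ExcFT
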