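import Groth.Agent.Hensel.K140.LocalJ2
import Groth.Agent.Etbc.H227.CdIso
import Groth.Agent.S2046
import Groth.Agent.S2791
import Groth.Agent.S2651
import Groth.Agent.S3488
import Groth.Agent.S3509
import Groth.Agent.EtDl.K555.ExcFT
import Groth.Prelude.Def_EtDepth

/-!
# Cohomological dimension of excellent integral `ℚ`-schemes

`CdSH`: `cd_ℓ(Frac A) ≤ dim A` for strictly henselian excellent local domains over `ℚ`.
`main`: the statement S8587 from `CdSH`.
-/

set_option autoImplicit false
universe u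
open CategoryTheory CategoryTheory.Limits AlgebraicGeometry Opposite IsLocalRing

namespace K555.CdExc

/-- The strictly henselian case. -/
def CdSH : Prop :=
  ∀ (A : Type u) [CommRing A] [IsDomain A] [HenselianLocalRing A] [IsSepClosed (ResidueField A)] [Algebra ℚ A],
    EGA4.IsExcellent A → ∀ (d : ℕ), ringKrullDim A = d → ∀ ℓ : ℕ, ℓ.Prime →
      EtDepth.CohDimLLE (Spec (CommRingCat.of (FractionRing A))) ℓ d

/-- Quotients of henselian local rings are henselian. -/
theorem henselianLocalRing_quotient (R : Type u) [CommRing R] [HenselianLocalRing R] (J : Ideal R)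
    (hJ : J ≠ ⊤) : HenselianLocalRing (R ⧸ J) := by
  have hnt : Nontrivial (R ⧸ J) := Ideal.Quotient.nontrivial_iff.mpr hJ
  have hloc : IsLocalRing (R ⧸ J) :=
    IsLocalRing.of_surjective' (Ideal.Quotient.mk J) Ideal.Quotient.mk_surjective
  have hlh : IsLocalHom (Ideal.Quotient.mk J) := Ideal.Quotient.mk_surjective.isLocalHom _
  refine ⟨?_⟩
  intro f hf a₀ h1 h2
  obtain ⟨F, hF, -, hFm⟩ := Polynomial.lifts_and_degree_eq_and_monic (f := Ideal.Quotient.mk J)
    (by
      rw [Polynomial.mem_lifts]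
      exact Polynomial.map_surjective _ Ideal.Quotient.mk_surjective f) hf
  obtain ⟨b, rfl⟩ := Ideal.Quotient.mk_surjective a₀
  rw [← hF, Polynomial.eval_map_apply] at h1
  rw [← hF, Polynomial.derivative_map, Polynomial.eval_map_apply] at h2
  obtain ⟨a, ha, ha'⟩ := HenselianLocalRing.is_henselian F hFm b
    ((mem_maximalIdeal _).mpr fun hu => (mem_maximalIdeal _).mp h1 (hu.map _))
    (isUnit_of_map_unit (Ideal.Quotient.mk J) _ h2)
  refine ⟨Ideal.Quotient.mk J a, ?_, ?_⟩
  · rw [← hF]
    exact Polynomial.IsRoot.map ha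
  · rw [← map_sub]
    exact (mem_maximalIdeal _).mpr fun hu =>
      (mem_maximalIdeal _).mp ha' (isUnit_of_map_unit (Ideal.Quotient.mk J) _ hu)

theorem isSepClosed_of_ringEquiv {k k' : Type*} [Field k] [Field k'] [IsSepClosed k] (φ : k ≃+* k') :
    IsSepClosed k' := by
  refine IsSepClosed.of_exists_root _ fun p _ hirr hsep => ?_
  obtain ⟨x, hx⟩ := IsSepClosed.exists_root (p.map (φ.symm : k' →+* k))
    (by rw [Polynomial.degree_map]; exact hirr.degree_pos.ne') (hsep.map)
  refine ⟨φ x, ?_⟩
  have h1 : (φ.symm : k' →+* k) (p.eval (φ x)) = 0 := by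
    rw [← Polynomial.eval_map_apply]
    simpa using hx
  exact (map_eq_zero_iff _ φ.symm.injective).mp h1

theorem isSepClosed_residueField_quotient (R : Type u) [CommRing R] [IsLocalRing R]
    [IsSepClosed (ResidueField R)] (J : Ideal R) [IsLocalRing (R ⧸ J)] :
    IsSepClosed (ResidueField (R ⧸ J)) := by
  have hlh : IsLocalHom (Ideal.Quotient.mk J) := Ideal.Quotient.mk_surjective.isLocalHom _
  exact isSepClosed_of_ringEquiv (RingEquiv.ofBijective
    (ResidueField.map (Ideal.Quotient.mk J))
    ⟨(ResidueField.map (Ideal.Quotient.mk J)).injective, fun y => by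
      obtain ⟨y, rfl⟩ := residue_surjective y
      obtain ⟨y, rfl⟩ := Ideal.Quotient.mk_surjective y
      exact ⟨residue R y, rfl⟩⟩)

/-- Strict henselizations of excellent local rings are excellent. -/
theorem isExcellent_strictHenselization (A R : Type u) [CommRing A] [IsLocalRing A] [CommRing R] [IsLocalRing R]
    [Algebra A R] [IsLocalHom (algebraMap A R)] [Hensel.IsStrictHenselization A R] (hA : EGA4.IsExcellent A) :
    EGA4.IsExcellent R := by
  have hN : IsNoetherianRing A := hA.1
  have h1 : CAlg.IsGRing R := Groth.Agent.S2046.result hA.2.2.1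
  exact ⟨h1.1, Groth.Agent.S2791.result A R hA.2.1, h1, K140.LocalJ2.isJ2_of_isGRing R h1⟩

/-- Local rings of excellent rings. -/
theorem isExcellent_of_isLocalization (B A : Type u) [CommRing B] [CommRing A] [IsLocalRing A] [Algebra B A]
    (M : Submonoid B) [IsLocalization M A] (hB : EGA4.IsExcellent B) : EGA4.IsExcellent A := by
  have hNB : IsNoetherianRing B := hB.1
  have h1 : Algebra.EssFiniteType B A := Algebra.EssFiniteType.of_isLocalization A M
  have h2 : CAlg.IsGRing A := Groth.Agent.Ega4B.GRingLoc.isGRing_of_isLocalization B A M hB.2.2.1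
  exact ⟨h2.1, Groth.Agent.S9126.result B A hB.2.1, h2, K140.LocalJ2.isJ2_of_isGRing A h2⟩

/-- Local rings of schemes with excellent affine opens. -/
theorem isExcellent_stalk {X : Scheme.{u}} (hexc : ∀ V : X.affineOpens, EGA4.IsExcellent Γ(X, V.1)) (x : X) :
    EGA4.IsExcellent (X.presheaf.stalk x) := by
  obtain ⟨U, hU, hxU, -⟩ := exists_isAffineOpen_mem_and_subset (x := x) (U := ⊤) trivial
  let _ := X.presheaf.algebra_section_stalk ⟨x, hxU⟩
  have := hU.isLocalization_stalk ⟨x, hxU⟩
  exact isExcellent_of_isLocalization Γ(X, U) (X.presheaf.stalk x) (hU.primeIdealOf ⟨x, hxU⟩).asIdeal.primeCompl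
    (hexc ⟨U, hU⟩)

theorem main (hCd : CdSH.{u}) {X : Scheme.{u}} [IsNoetherian X] [IsIntegral X]
    (qX : X ⟶ Spec (CommRingCat.of (ULift.{u} ℚ)))
    (hexc : ∀ V : X.affineOpens, EGA4.IsExcellent Γ(X, V.1))
    (ℓ : ℕ) (hℓ : ℓ.Prime)
    (hord : ℓ ≠ 2 ∨ ∀ x : X, ∃ l : List (X.residueField x), (l.map (fun a => a * a)).sum = -1) :
    (∀ d e : ℕ, topologicalKrullDim ↥X ≤ d → EtDepth.CohDimLLE (Spec X.functionField) ℓ e →
        EtDepth.CohDimLLE X ℓ (e + d)) ∧
    (∀ e : ℕ, EtDepth.CohDimLLE (Spec X.functionField) ℓ e → topologicalKrullDim ↥X ≤ e) := by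
  have hchar : ∀ x : X, Nonempty (ULift.{u} ℚ →+* X.residueField x) := fun x => by
    obtain ⟨φ, -⟩ := Spec.map_surjective (X.fromSpecResidueField x ≫ qX)
    exact ⟨φ.hom⟩
  have hinv : Dix.InvertibleOn X ℓ := by
    intro x
    obtain ⟨φ⟩ := hchar x
    have h0 : IsUnit ((ℓ : ℕ) : ULift.{u} ℚ) := by
      have h1 : ((ℓ : ℕ) : ℚ) ≠ 0 := Nat.cast_ne_zero.2 hℓ.ne_zero
      have h2 := (isUnit_iff_ne_zero.2 h1).map (ULift.ringEquiv (R := ℚ)).symm
      rwa [map_natCast] at h2
    have h1 := h0.map φ
    rw [map_natCast] at h1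
    exact h1.ne_zero
  have hgen : ∀ e : ℕ, EtDepth.CohDimLLE (Spec X.functionField) ℓ e →
      ∀ x : X, closure {x} ∈ irreducibleComponents (X : Type u) → Dix.CohDimLEAt (Spec (X.residueField x)) ℓ e := by
    intro e he x hx
    have hxg : x = genericPoint X := by
      have h1 : IsGenericPoint x (⊤ : Set X) := by
        have h2 : closure {x} = (Set.univ : Set X) := by
          rw [irreducibleComponents_eq_singleton] at hx
          exact hx
        exact h2
      exact h1.eq (genericPoint_spec X)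
    subst hxg
    let r : X.functionField →+* X.residueField (genericPoint X) := (X.residue (genericPoint X)).hom
    have hr : Function.Bijective r := ⟨RingHom.injective _, X.residue_surjective _⟩
    exact Groth.Agent.Etbc.H227.CdIso.cohDimLEAt_of_ringEquiv (RingEquiv.ofBijective r hr) ℓ e he
  refine ⟨fun d e hd he => ?_, fun e he => Groth.Agent.S3488.result X ℓ hℓ hinv e (hgen e he)⟩
  refine Groth.Agent.S3509.result X d hd ℓ hℓ hinv ?_ ?_ e (hgen e he)
  · intro x y hxy R _ _ _ _ _ P hP m hm
    have hRe : EGA4.IsExcellent R :=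
      isExcellent_strictHenselization (X.presheaf.stalk y) R (isExcellent_stalk hexc y)
    have hH : HenselianLocalRing R := Hensel.IsStrictHenselization.henselian (R := X.presheaf.stalk y)
    have hsep := (Hensel.IsStrictHenselization.isSepClosure (R := X.presheaf.stalk y) (S := R)).sep_closed
    have hPp : P.IsPrime := hP.1.1
    have hNR : IsNoetherianRing R := hRe.1
    have hE : EGA4.IsExcellent (R ⧸ P) := Groth.Agent.S2651.result R hRe (R ⧸ P)
    have hHP : HenselianLocalRing (R ⧸ P) := henselianLocalRing_quotient R P hPp.ne_top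
    have hsepP : IsSepClosed (ResidueField (R ⧸ P)) := isSepClosed_residueField_quotient R P
    obtain ⟨ψ, -⟩ := Spec.map_surjective (X.fromSpecStalk y ≫ qX)
    let φ : ℚ →+* R ⧸ P := (Ideal.Quotient.mk P).comp ((algebraMap (X.presheaf.stalk y) R).comp
      (ψ.hom.comp (ULift.ringEquiv (R := ℚ)).symm.toRingHom))
    let _ : Algebra ℚ (R ⧸ P) := φ.toAlgebra
    obtain ⟨d', hd'⟩ : ∃ d' : ℕ, ringKrullDim (R ⧸ P) = d' := by
      obtain ⟨h1, h2⟩ := (finiteRingKrullDim_iff_ne_bot_and_top (R := R ⧸ P)).1 inferInstance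
      generalize ringKrullDim (R ⧸ P) = a at h1 h2
      induction a with
      | bot => exact absurd rfl h1
      | coe a =>
        induction a with
        | top => exact absurd rfl h2
        | coe n => exact ⟨n, rfl⟩
    have hle : d' ≤ m := by
      have h1 : ringKrullDim (R ⧸ P) ≤
          ringKrullDim (R ⧸ (RingHom.ker (Cyc.specMap y x hxy)).map (algebraMap (X.presheaf.stalk y) R)) :=
        ringKrullDim_le_of_surjective (Ideal.Quotient.factor hP.1.2) (Ideal.Quotient.factor_surjective hP.1.2)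
      rw [hd', hm] at h1
      exact_mod_cast h1
    exact Groth.Agent.Etbc.H227.CdIso.cohDimLEAt_mono hle (hCd (R ⧸ P) hE d' hd' ℓ hℓ)
  · refine hord.imp id fun h x hx => ?_
    obtain ⟨hlin, hstr⟩ := hx
    obtain ⟨l, hl⟩ := h x
    have h1 : ∀ l : List (X.residueField x), 0 ≤ (l.map (fun a => a * a)).sum := by
      intro l
      refine List.sum_nonneg fun a ha => ?_
      obtain ⟨b, -, rfl⟩ := List.mem_map.1 ha
      exact mul_self_nonneg b
    have h2 := h1 l
    rw [hl] at h2
    exact absurd h2 (not_le.2 (by simp))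

end K555.CdExc
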