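import Groth.Agent.EtDl.K555.RegMor
import Groth.Agent.SGA4h.K557.BcQ
import Groth.Prelude.Def_PBC

/-!
# The base change maps `bcQ` for torsion sheaves and a base change satisfying universal base change

* `isTorsionInvertibleOn_of_isTorsion`: torsion sheaves have orders invertible on a field of characteristic zero;
* `isIso_bcQ_of_bcMor`: `EtpbcB.BCU.BCMor` over a field of characteristic zero implies that all maps `bcQ` are
  isomorphisms on torsion sheaves;
* `isIso_bcQ_of_isRegularMor`: regular morphisms of locally Noetherian schemes of characteristic zero.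
-/

set_option autoImplicit false
universe u
open CategoryTheory CategoryTheory.Limits AlgebraicGeometry Opposite

namespace K555.RegBC

open EtCoh Groth.Agent.EtpbcB.BCU Groth.Agent

theorem isTorsionInvertibleOn_of_isTorsion (k : Type u) [Field k] [CharZero k] {T : Scheme.{u}}
    {F : EtCoh.Ab T} (hF : EtCoh.IsTorsion F) :
    EtPBC.IsTorsionInvertibleOn (Spec (CommRingCat.of k)) F := by
  intro U s x
  obtain ⟨V, g, hv, ht⟩ := hF U s x
  obtain ⟨n, hn, h0⟩ := isOfFinAddOrder_iff_nsmul_eq_zero.1 ht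
  refine ⟨V, g, n, hv, ?_, h0⟩
  have h1 : IsUnit (n : k) := Ne.isUnit (by exact_mod_cast hn.ne')
  have h3 := h1.map (Scheme.ΓSpecIso (CommRingCat.of k)).inv.hom
  rw [map_natCast] at h3
  exact h3

/-- Base change for torsion sheaves, all the maps `bcQ`. -/
theorem isIso_bcQ_of_bcMor (k : Type u) [Field k] [CharZero k] {X Y X' Y' : Scheme.{u}} (f : X ⟶ Y)
    [QuasiCompact f] [QuasiSeparated f] (g : Y' ⟶ Y) (hg : BCMor (Spec (CommRingCat.of k)) g) (f' : X' ⟶ Y')
    (g' : X' ⟶ X) (h : IsPullback g' f' f g) [PreservesFiniteLimits (EtCoh.pull g')]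
    (F : EtCoh.Ab X) (hF : EtCoh.IsTorsion F) (q : ℕ) : IsIso (EtBC.bcQ f g f' g' h.w q F) := by
  rw [K557.BcQ.isIso_bcQ_iff]
  have key := fun (G : EtCoh.Ab X) (hG : EtCoh.IsTorsion G) =>
    hg f f' g' h G (isTorsionInvertibleOn_of_isTorsion k hG)
  exact Sga4B.BCDelta.isIso_BC_of h.w (fun G hG => (key G hG).2) (fun G hG q => (key G hG).1 q) q F hF

/-- Base change along a regular morphism. -/
theorem isIso_bcQ_of_isRegularMor {k : Type u} [Field k] [CharZero k] {X Y X' Y' : Scheme.{u}}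
    [IsLocallyNoetherian Y] [IsLocallyNoetherian Y'] (qY : Y ⟶ Spec (CommRingCat.of k)) (f : X ⟶ Y)
    [QuasiCompact f] [QuasiSeparated f] (g : Y' ⟶ Y) (hg : EtDepth.IsRegularMor g) (f' : X' ⟶ Y')
    (g' : X' ⟶ X) (h : IsPullback g' f' f g) [PreservesFiniteLimits (EtCoh.pull g')]
    (F : EtCoh.Ab X) (hF : EtCoh.IsTorsion F) (q : ℕ) : IsIso (EtBC.bcQ f g f' g' h.w q F) :=
  isIso_bcQ_of_bcMor k f g (RegMor.ubc_of_isRegularMor g hg qY).bcMor f' g' h F hF q

end K555.RegBC
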