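import Groth.Agent.EtDl.K555.AwaySq
import Groth.Agent.EtDl.K555.RegMor
import Groth.Agent.Etdl.H438.SLocBC
import Groth.Agent.Etcore.HpullCalc
import Groth.Agent.Etcore.HpullEq
import Groth.Agent.EtpbcB.TorsionBasic

/-!
# Comparison of the cohomology of principal localizations of strictly local schemes

`bijective_of_regular`: `R → A → A'` local homomorphisms of strictly henselian Noetherian rings of characteristic
zero, `R → A` and `R → A'` regular, `τ ∈ R`: then `H^q(Spec A_τ, ℤ/n) → H^q(Spec A'_τ, ℤ/n)` is bijective.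
-/

set_option autoImplicit false
universe u

open CategoryTheory CategoryTheory.Limits AlgebraicGeometry Opposite

namespace K555.TwoOfThree

open EtCoh Groth.Agent.Etcore Groth.Agent.EtpbcB.BCU

theorem map_closedPoint {R R' : Type u} [CommRing R] [CommRing R'] [IsLocalRing R] [IsLocalRing R']
    (φ : R →+* R') [IsLocalHom φ] :
    Spec.map (CommRingCat.ofHom φ) (IsLocalRing.closedPoint R') = IsLocalRing.closedPoint R :=
  IsLocalRing.comap_closedPoint φ

/-- The torsion of `ℤ/n` is invertible on a scheme over a field of characteristic zero. -/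
theorem torInv_const (S T : Scheme.{u}) {k : Type u} [Field k] [CharZero k]
    (s : S ⟶ Spec (CommRingCat.of k)) (n : ℕ) (hn : n ≠ 0) :
    EtPBC.IsTorsionInvertibleOn S (EtCoh.const T (ZMod n)) := by
  intro U a x
  refine ⟨U, 𝟙 U, n, ⟨x, rfl⟩, ?_, ?_⟩
  · have h0 : IsUnit (n : k) := Ne.isUnit (Nat.cast_ne_zero.2 hn)
    have h3 := h0.map ((s.appTop.hom).comp (Scheme.ΓSpecIso (CommRingCat.of k)).inv.hom)
    rwa [map_natCast] at h3
  · have h := Groth.Agent.EtpbcB.TorsionBasic.killedBy_const (X := T) (ZMod n) n (fun m => by simp)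
    exact h U _

/-- Comparison along a regular local homomorphism. -/
theorem bijective_hp {R A : Type u} [CommRing R] [CommRing A] [HenselianLocalRing R] [HenselianLocalRing A]
    [IsSepClosed (IsLocalRing.ResidueField R)] [IsSepClosed (IsLocalRing.ResidueField A)]
    [IsNoetherianRing R] [IsNoetherianRing A] (δ : R →+* A) [IsLocalHom δ]
    (hδ : @CAlg.IsRegularHom R _ A _ δ.toAlgebra) {X X' : Scheme.{u}} (f : X ⟶ Spec (CommRingCat.of R))
    [QuasiCompact f] [QuasiSeparated f] (f' : X' ⟶ Spec (CommRingCat.of A)) (g' : X' ⟶ X)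
    (sq : IsPullback g' f' f (Spec.map (CommRingCat.ofHom δ)))
    [PreservesFiniteLimits (pull g')] (F : Ab X)
    (hF : EtPBC.IsTorsionInvertibleOn (Spec (CommRingCat.of R)) F) (q : ℕ) :
    Function.Bijective (HpullCalc.hp g' F q) := by
  have hU : UBC (Spec (CommRingCat.of R)) (Spec.map (CommRingCat.ofHom δ)) :=
    RegMor.ubc_of_isRegularHom δ hδ (𝟙 _)
  exact Groth.Agent.Etdl.H438.SLocBC.bijective_hp (map_closedPoint δ) f f' g' sq.w
    (fun G hG => (hU.bcMor f f' g' sq G hG).2)
    (fun G hG hz q hq => ((EtCoh.pull _).map_isZero (hz q hq)).of_iso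
      ((hU.bcMor f f' g' sq G hG).1 q).some.symm) F hF q

theorem bijective_of_regular {R A A' : Type u} [CommRing R] [CommRing A] [CommRing A']
    [HenselianLocalRing R] [HenselianLocalRing A] [HenselianLocalRing A']
    [IsSepClosed (IsLocalRing.ResidueField R)] [IsSepClosed (IsLocalRing.ResidueField A)]
    [IsSepClosed (IsLocalRing.ResidueField A')]
    [IsNoetherianRing R] [IsNoetherianRing A] [IsNoetherianRing A']
    {k : Type u} [Field k] [CharZero k] (κ : k →+* R) (δ : R →+* A) (φ : A →+* A') [IsLocalHom δ]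
    [IsLocalHom φ] (hδ : @CAlg.IsRegularHom R _ A _ δ.toAlgebra)
    (hφδ : @CAlg.IsRegularHom R _ A' _ (φ.comp δ).toAlgebra) (τ : R) (y : A) (hy : δ τ = y)
    [PreservesFiniteLimits (EtCoh.pull (Spec.map (CommRingCat.ofHom (Localization.awayMap φ y))))]
    (n : ℕ) (hn : n ≠ 0) (F : EtCoh.Ab (Spec (CommRingCat.of (Localization.Away y))))
    (e : EtCoh.const _ (ZMod n) ≅ F) (q : ℕ) :
    Function.Bijective (EtCore.Hpull (Spec.map (CommRingCat.ofHom (Localization.awayMap φ y))) F q) := by
  subst hy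
  have i1 : IsLocalHom (φ.comp δ) := inferInstance
  let f : Spec (CommRingCat.of (Localization.Away τ)) ⟶ Spec (CommRingCat.of R) :=
    Spec.map (CommRingCat.ofHom (algebraMap R (Localization.Away τ)))
  let g₁ : Spec (CommRingCat.of (Localization.Away (δ τ))) ⟶ Spec (CommRingCat.of (Localization.Away τ)) :=
    Spec.map (CommRingCat.ofHom (Localization.awayMap δ τ))
  let g₂ : Spec (CommRingCat.of (Localization.Away (φ (δ τ)))) ⟶
      Spec (CommRingCat.of (Localization.Away (δ τ))) :=
    Spec.map (CommRingCat.ofHom (Localization.awayMap φ (δ τ)))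
  have hg3 : g₂ ≫ g₁ = Spec.map (CommRingCat.ofHom
      ((Localization.awayMap φ (δ τ)).comp (Localization.awayMap δ τ))) := by
    rw [CommRingCat.ofHom_comp, Spec.map_comp]
  have sq1 := AwaySq.isPullback δ τ (δ τ) rfl (Localization.awayMap δ τ) (AwaySq.awayMap_comp δ τ)
  have sq2 := AwaySq.isPullback (φ.comp δ) τ (φ (δ τ)) rfl
    ((Localization.awayMap φ (δ τ)).comp (Localization.awayMap δ τ)) (by
      rw [RingHom.comp_assoc, AwaySq.awayMap_comp δ τ, ← RingHom.comp_assoc, AwaySq.awayMap_comp φ (δ τ),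
        RingHom.comp_assoc])
  rw [← hg3] at sq2
  have j1 : PreservesFiniteLimits (EtCoh.pull g₁) := Groth.Agent.S0101.result g₁
  have j2 : PreservesFiniteLimits (EtCoh.pull (g₂ ≫ g₁)) := Groth.Agent.S0101.result _
  have j3 : PreservesFiniteLimits (EtCoh.pull g₂) := Groth.Agent.S0101.result g₂
  have hT : EtPBC.IsTorsionInvertibleOn (Spec (CommRingCat.of R))
      (EtCoh.const (Spec (CommRingCat.of (Localization.Away τ))) (ZMod n)) :=
    torInv_const _ _ (Spec.map (CommRingCat.ofHom κ)) n hn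
  have h1 := bijective_hp δ hδ f _ g₁ sq1 (EtCoh.const _ (ZMod n)) hT q
  have h2 := bijective_hp (φ.comp δ) hφδ f _ (g₂ ≫ g₁) sq2 (EtCoh.const _ (ZMod n)) hT q
  have h3 := (HpullCalc.bijective_hp_comp g₂ g₁ (EtCoh.const _ (ZMod n)) q h1).1 h2
  rw [HpullCalc.bijective_Hpull_iff]
  exact HpullCalc.bijective_hp_of_iso g₂ (EtCore.pullConst g₁ (ZMod n) ≪≫ e) h3

end K555.TwoOfThree
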