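import Groth.Agent.Sga5.H855.Abs

/-!
# The top direct image of the open complement in the abstract blow-up situation

In the situation of `Groth.Agent.Sga5.H855.Abs.Hyp`: `R^{r+1} G (L N) ≅ R^r G₁ (P₁)`, `P₁ = R¹G₂(L₂ L₁ N)`.
-/

set_option autoImplicit false
universe t₁ t₂ w₁ w₂ w₃ v₁ v₂ v₃ u₁ u₂ u₃

open CategoryTheory CategoryTheory.Limits Opposite Abelian Pretriangulated

noncomputable section
namespace K555.AbsTop

open Groth.Agent.Etrest.RDer2 Groth.Agent.Etrest.RDer3 Groth.Agent.Etrest.RDer4 Groth.Agent.Sga5.H855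
  Groth.Agent.Sga5.H855.Hyper Groth.Agent.Sga5.H855.HZero Groth.Agent.Sga5.H855.ConeH
  Groth.Agent.Sga5.H855.Oct Groth.Agent.Sga5.H855.Comp

variable {A : Type u₁} [Category.{v₁} A] [Abelian A]
  {B : Type u₂} [Category.{v₂} B] [Abelian B] [EnoughInjectives B]
  {C : Type u₃} [Category.{v₃} C] [Abelian C] [EnoughInjectives C]
  {L₁ : A ⥤ B} {G₁ : B ⥤ A} [L₁.Additive] [G₁.Additive] [PreservesFiniteLimits L₁]
  [PreservesFiniteColimits L₁] [PreservesFiniteLimits G₁]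
  {L₂ : B ⥤ C} {G₂ : C ⥤ B} [L₂.Additive] [G₂.Additive] [PreservesFiniteLimits L₂]
  [PreservesFiniteColimits L₂] [PreservesFiniteLimits G₂]
  {L : A ⥤ C} {G : C ⥤ A} [L.Additive] [G.Additive] [PreservesFiniteLimits L]
  [PreservesFiniteColimits L] [PreservesFiniteLimits G] (e : L₁ ⋙ L₂ ≅ L)

variable [HasDerivedCategory.{w₁} A] [HasDerivedCategory.{w₂} B] [HasDerivedCategory.{w₃} C] [HasKInj B]
  [HasKInj C]

/-- `H^n(M[0]⟦-n⟧) ≅ M`. -/
def shiftSingle (M : A) (n : ℤ) :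
    (DerivedCategory.homologyFunctor A n).obj (((DerivedCategory.singleFunctor A 0).obj M)⟦-n⟧) ≅ M :=
  shiftH _ (-n) n 0 (by lia) ≪≫ (DerivedCategory.singleFunctorCompHomologyFunctorIso A 0).app M

include e in
/-- `R^{r+1} G (L N) ≅ R^r G₁ (P₁)`. -/
theorem nonempty_iso_top {adj₁ : L₁ ⊣ G₁} {adj₂ : L₂ ⊣ G₂} {adj : L ⊣ G} {N : A} {r : ℕ}
    (hyp : Abs.Hyp adj₁ adj₂ adj N r) :
    Nonempty ((G.rightDerived (r + 1)).obj (L.obj N) ≅ (G₁.rightDerived r).obj hyp.P₁) := by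
  obtain ⟨C₁, Q, X, u', u'', v', v'', w', w'', h1, h2, h3, -, -, hle, hge, ⟨eQ⟩⟩ := hyp.exists_data' e
  have i1 : IsIso ((DerivedCategory.homologyFunctor A ((r + 1 : ℕ) : ℤ)).map w') :=
    isIso_mor₂ _ h3 ((r + 1 : ℕ) : ℤ) (((r + 1 : ℕ) : ℤ) + 1) rfl (isZero_single N 0 _ (by lia))
      (isZero_single N 0 _ (by lia))
  have hr : ((r + 1 : ℕ) : ℤ) = (r : ℤ) + 1 := by lia
  have e1 := (homologyIso adj₁ adj₂ adj e N (r + 1)).symm ≪≫
    (@asIso _ _ _ _ ((DerivedCategory.homologyFunctor A ((r + 1 : ℕ) : ℤ)).map w') i1)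
  have e2 : (DerivedCategory.homologyFunctor A ((r + 1 : ℕ) : ℤ)).obj Q ≅
      (G₁.rightDerived r).obj hyp.P₁ := by
    rw [hr]
    exact (DerivedCategory.homologyFunctor A ((r : ℤ) + 1)).mapIso eQ ≪≫ shiftSingle _ _
  exact ⟨e1 ≪≫ e2⟩

end K555.AbsTop
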