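import Groth.Agent.Sga67.BlowReg
import Groth.Agent.Lefpen.H496.BlowFibre
import Groth.Agent.Divis.CartierStalk
import Groth.Agent.Divis.BlowUpFormal
import Groth.Agent.CalgA.RegBasic
import Mathlib.RingTheory.KrullDimension.Regular

/-!
# Fibres of the blow-up of a regular closed immersion of codimension `e + 1`

* `length_eq`: the length of a regular sequence defining a closed subscheme is its codimension;
* `topologicalKrullDim_fiber_le`: the fibres of the blow-up have dimension at most `e`.
-/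

set_option autoImplicit false
universe u

open CategoryTheory CategoryTheory.Limits AlgebraicGeometry BlowUp

namespace K555.BlowDim

open Groth.Agent Groth.Agent.Sga4h.GeoDim Groth.Agent.Divis.CartierBasic Groth.Agent.Divis.CartierStalk
open Groth.Agent.Divis Groth.Agent.Divis.BlowChart

theorem length_eq {X Y : Scheme.{u}} [IsLocallyNoetherian X] (i : Y ⟶ X) [IsClosedImmersion i]
    {U : X.Opens} (hU : IsAffineOpen U) (y : Y) (hy : i y ∈ U) (rs : List Γ(X, U))
    (hrs : RingTheory.Sequence.IsWeaklyRegular Γ(X, U) rs)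
    (hker : i.ker.ideal ⟨U, hU⟩ = Ideal.ofList rs) :
    ringKrullDim (X.presheaf.stalk (i y)) = ringKrullDim (Y.presheaf.stalk y) + rs.length := by
  letI : Algebra Γ(X, U) (X.presheaf.stalk (i y)) := X.presheaf.algebra_section_stalk ⟨i y, hy⟩
  have hloc := hU.isLocalization_stalk ⟨i y, hy⟩
  have hflat : Module.Flat Γ(X, U) (X.presheaf.stalk (i y)) :=
    IsLocalization.flat _ (hU.primeIdealOf ⟨i y, hy⟩).asIdeal.primeCompl
  have hw : RingTheory.Sequence.IsWeaklyRegular (X.presheaf.stalk (i y))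
      (rs.map (algebraMap Γ(X, U) (X.presheaf.stalk (i y)))) := hrs.of_flat
  have hI : Ideal.ofList (rs.map (algebraMap Γ(X, U) (X.presheaf.stalk (i y)))) =
      RingHom.ker (i.stalkMap y).hom := by
    rw [ker_stalkMap, stalkIdeal_eq i.ker ⟨U, hU⟩ hy, hker, Ideal.map_ofList]
    rfl
  have hr : RingTheory.Sequence.IsRegular (X.presheaf.stalk (i y))
      (rs.map (algebraMap Γ(X, U) (X.presheaf.stalk (i y)))) := by
    rw [RingTheory.Sequence.isRegular_iff]
    refine ⟨hw, fun h => ?_⟩
    rw [smul_eq_mul, Ideal.mul_top, hI] at h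
    exact RingHom.ker_ne_top _ h.symm
  have h := ringKrullDim_add_length_eq_ringKrullDim_of_isRegular _ hr
  rw [← h, List.length_map, hI]
  congr 1
  exact ringKrullDim_eq_of_ringEquiv
    (RingHom.quotientKerEquivOfSurjective (i.stalkMap_surjective y))

theorem length_eq_of_codim {X Y : Scheme.{u}} [IsLocallyNoetherian X] (i : Y ⟶ X) [IsClosedImmersion i]
    {U : X.Opens} (hU : IsAffineOpen U) (y : Y) (hy : i y ∈ U) (rs : List Γ(X, U))
    (hrs : RingTheory.Sequence.IsWeaklyRegular Γ(X, U) rs)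
    (hker : i.ker.ideal ⟨U, hU⟩ = Ideal.ofList rs) [IsRegularLocalRing (Y.presheaf.stalk y)] (c : ℕ)
    (hc : ringKrullDim (X.presheaf.stalk (i y)) = ringKrullDim (Y.presheaf.stalk y) + c) :
    rs.length = c := by
  have h := length_eq i hU y hy rs hrs hker
  rw [hc] at h
  obtain ⟨d, hd⟩ := CalgA.RegBasic.ringKrullDim_eq_natCast (Y.presheaf.stalk y)
  rw [hd] at h
  have h5 : d + c = d + rs.length := by exact_mod_cast h
  omega

/-- The affine blow-up algebra of an ideal with `e + 1` generators is generated by `e` elements. -/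
theorem exists_gens {A : Type u} [CommRing A] {c e : ℕ} (hc : c = e + 1) (f : Fin c → A) (k : Fin c)
    {I : Ideal A} (hI : I = Ideal.span (Set.range f)) :
    ∃ w : Fin e → affineAlgebra A I (f k),
      Function.Surjective (MvPolynomial.eval₂Hom (algebraMap A (affineAlgebra A I (f k))) w) := by
  subst hI hc
  refine ⟨fun j => Sga67.BlowQuot.Φ f k (MvPolynomial.X (finSuccAboveEquiv k j)), fun y => ?_⟩
  obtain ⟨p, hp⟩ := Sga67.BlowQuot.Φ_surjective f k y
  refine ⟨MvPolynomial.rename (finSuccAboveEquiv k).symm p, ?_⟩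
  rw [← hp]
  rw [MvPolynomial.coe_eval₂Hom, MvPolynomial.eval₂_rename]
  have h2 : ∀ q, Sga67.BlowQuot.Φ f k q = MvPolynomial.aeval (fun j => Sga67.BlowQuot.Φ f k (MvPolynomial.X j)) q := by
    intro q
    rw [← MvPolynomial.comp_aeval_apply]
    simp
  rw [h2 p, MvPolynomial.aeval_def]
  congr 1
  ext j
  simp

theorem trdegAt_le {X Y : Scheme.{u}} [IsLocallyNoetherian X] (i : Y ⟶ X)
    (hi : Mor2.IsRegularClosedImmersion i)
    (hYreg : ∀ y : Y, IsRegularLocalRing (Y.presheaf.stalk y)) (e : ℕ)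
    (hcodim : ∀ y : Y, ringKrullDim (X.presheaf.stalk (i y)) = ringKrullDim (Y.presheaf.stalk y) + (e + 1 : ℕ))
    {X' : Scheme.{u}} {b : X' ⟶ X} (hb : IsBlowUp b i.ker) (x' : X') :
    trdegAt b x' ≤ (e : Cardinal.{u}) := by
  have : IsClosedImmersion i := hi.1
  by_cases hx : b x' ∈ Set.range i
  · obtain ⟨y, hy⟩ := hx
    obtain ⟨U, hU, hyU, rs, hrs, hker⟩ := hi.2 y
    have := hYreg y
    have hlen := length_eq_of_codim i hU y hyU rs hrs.toIsWeaklyRegular hker (e + 1) (hcodim y)
    have hspan : i.ker.ideal ⟨U, hU⟩ = Ideal.span (Set.range rs.get) := by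
      rw [hker, Ideal.ofList]
      congr 1
      ext x
      simp [List.mem_iff_get]
    obtain ⟨a, ⟨k, rfl⟩, c, hc, q, hq, hcf⟩ := Sga67.BlowCover.exists_chart hb ⟨U, hU⟩
      (Set.range rs.get) hspan x' (by rw [← hy]; exact hyU)
    obtain ⟨w, hw⟩ := exists_gens hlen rs.get k hspan
    have h := congrArg (fun g => trdegAt g q) hcf
    simp only at h
    rw [trdegAt_comp, trdegAt_eq_zero_of_isPreimmersion c, add_zero, hq] at h
    rw [h, trdegAt_comp, trdegAt_eq_zero_of_isPreimmersion hU.fromSpec, zero_add]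
    exact Lefpen.H496.BlowFibre.trdegAt_Spec_le _ w hw q
  · have hx2 : b x' ∉ i.ker.support := by
      intro h
      apply hx
      have h2 : (i.ker.support : Set X) = Set.range i := by
        rw [Scheme.Hom.support_ker]
        exact i.isClosedEmbedding.isClosed_range.closure_eq
      rw [← h2]
      exact h
    have := BlowUpFormal.isIso_morphismRestrict_compl_support hb i.ker.support.compl disjoint_compl_left
    have e1 : Scheme.Opens.ι (b ⁻¹ᵁ i.ker.support.compl) ≫ b =
        b ∣_ i.ker.support.compl ≫ Scheme.Opens.ι i.ker.support.compl := by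
      rw [morphismRestrict_ι]
    have hO : IsOpenImmersion (Scheme.Opens.ι (b ⁻¹ᵁ i.ker.support.compl) ≫ b) := by
      rw [e1]; infer_instance
    have h0 := trdegAt_eq_zero_of_isPreimmersion (Scheme.Opens.ι (b ⁻¹ᵁ i.ker.support.compl) ≫ b) ⟨x', hx2⟩
    rw [trdegAt_comp, trdegAt_eq_zero_of_isPreimmersion (Scheme.Opens.ι (b ⁻¹ᵁ i.ker.support.compl)), add_zero] at h0
    exact h0.le.trans bot_le

/-- **The fibres of the blow-up of a regular centre of codimension `e + 1` have dimension at most `e`.** -/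
theorem topologicalKrullDim_fiber_le {X Y : Scheme.{u}} [IsLocallyNoetherian X] (i : Y ⟶ X)
    (hi : Mor2.IsRegularClosedImmersion i)
    (hYreg : ∀ y : Y, IsRegularLocalRing (Y.presheaf.stalk y)) (e : ℕ)
    (hcodim : ∀ y : Y, ringKrullDim (X.presheaf.stalk (i y)) = ringKrullDim (Y.presheaf.stalk y) + (e + 1 : ℕ))
    {X' : Scheme.{u}} {b : X' ⟶ X} (hb : IsBlowUp b i.ker) [LocallyOfFiniteType b] (x : X) :
    topologicalKrullDim (b.fiber x) ≤ e :=
  Sga4h.GenULADim.topologicalKrullDim_fiber_le b x e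
    (fun x' _ => trdegAt_le i hi hYreg e hcodim hb x')

end K555.BlowDim
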