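import Mathlib.AlgebraicGeometry.Morphisms.ClosedImmersion
import Mathlib.AlgebraicGeometry.Stalk

/-!
# Closed subschemes and spectra of local rings
-/

set_option autoImplicit false
universe u
open CategoryTheory CategoryTheory.Limits AlgebraicGeometry

namespace K555.ClosedStalk

/-- A point of `Spec O_{X, i y}` lies in the closed subscheme `Y` if and only if it contains the kernel of
`O_{X, i y} → O_{Y, y}`. -/
theorem mem_range_iff {X Y : Scheme.{u}} (i : Y ⟶ X) [IsClosedImmersion i] (y : Y)
    (z : Spec (X.presheaf.stalk (i y))) :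
    X.fromSpecStalk (i y) z ∈ Set.range i ↔ RingHom.ker (i.stalkMap y).hom ≤ z.asIdeal := by
  have hsurj : Function.Surjective (i.stalkMap y).hom := i.stalkMap_surjective y
  have hsq := Scheme.SpecMap_stalkMap_fromSpecStalk i (x := y)
  have hr : Set.range (Spec.map (i.stalkMap y)) =
      PrimeSpectrum.zeroLocus (RingHom.ker (i.stalkMap y).hom : Set (X.presheaf.stalk (i y))) :=
    range_comap_of_surjective _ _ hsurj
  have hmem : z ∈ Set.range (Spec.map (i.stalkMap y)) ↔ RingHom.ker (i.stalkMap y).hom ≤ z.asIdeal := by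
    rw [hr]
    rfl
  rw [← hmem]
  constructor
  · rintro ⟨y', hy'⟩
    have h1 : X.fromSpecStalk (i y) z ⤳ i y := by
      have : X.fromSpecStalk (i y) z ∈ Set.range (X.fromSpecStalk (i y)) := ⟨z, rfl⟩
      rwa [Scheme.range_fromSpecStalk] at this
    rw [← hy'] at h1
    have h2 : y' ⤳ y := i.isClosedEmbedding.isInducing.specializes_iff.1 h1
    have h3 : y' ∈ Set.range (Y.fromSpecStalk y) := by
      rw [Scheme.range_fromSpecStalk]
      exact h2
    obtain ⟨w, hw⟩ := h3
    refine ⟨w, ?_⟩
    apply (X.fromSpecStalk (i y)).isEmbedding.injective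
    rw [← Scheme.Hom.comp_apply, hsq, Scheme.Hom.comp_apply, hw, hy']
  · rintro ⟨w, rfl⟩
    refine ⟨Y.fromSpecStalk y w, ?_⟩
    rw [← Scheme.Hom.comp_apply, ← Scheme.Hom.comp_apply, hsq]

end K555.ClosedStalk
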