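import Groth.Agent.Sga4h.ConsWO
import Groth.Agent.Sga5.EtNoeth
import Groth.Agent.Etcore.PullJoint
import Groth.Agent.Etdl.H441.Loc

/-!
# Descent of constructibility along a finite jointly surjective family

`cn_of_pull`: `X` and the `Z i` (`i` in a finite set) Noetherian, `c i : Z i ⟶ X` arbitrary morphisms which are
jointly surjective. A sheaf on `X` killed by a power of `n` is constructible if its inverse images are.
-/

set_option autoImplicit false
universe u
open CategoryTheory CategoryTheory.Limits AlgebraicGeometry Opposite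

namespace K555.CnDesc

open Groth.Agent Groth.Agent.Sga4h.ConsWO

/-- Noetherian objects descend along jointly surjective families. -/
theorem isNoetherianObject_of_pull {X : Scheme.{u}} {ι : Type*} [Finite ι] {Z : ι → Scheme.{u}} (c : ∀ i, Z i ⟶ X)
    (hc : ∀ x : X, ∃ (i : ι) (z : Z i), (c i) z = x) (G : EtCoh.Ab X)
    (h : ∀ i, IsNoetherianObject ((EtCoh.pull (c i)).obj G)) : IsNoetherianObject G := by
  classical
  have hpfl : ∀ i, PreservesFiniteLimits (EtCoh.pull (c i)) := fun i => Groth.Agent.S0101.result _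
  rw [isNoetherianObject_iff_monotone_chain_condition]
  intro f
  have hmono : ∀ (i : ι) (m : ℕ), Mono ((EtCoh.pull (c i)).map (f m).arrow) := fun i m => inferInstance
  have key : ∀ i, ∃ N : ℕ, ∀ m, N ≤ m →
      Subobject.mk ((EtCoh.pull (c i)).map (f N).arrow) = Subobject.mk ((EtCoh.pull (c i)).map (f m).arrow) := by
    intro i
    have := h i
    exact monotone_chain_condition_of_isNoetherianObject
      (X := (EtCoh.pull (c i)).obj G) ⟨fun m => Subobject.mk ((EtCoh.pull (c i)).map (f m).arrow), fun a b hab => by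
        refine Subobject.mk_le_mk_of_comm ((EtCoh.pull (c i)).map ((f a).ofLE (f b) (f.monotone hab))) ?_
        rw [← Functor.map_comp, Subobject.ofLE_arrow]⟩
  choose N hN using key
  have := Fintype.ofFinite ι
  refine ⟨Finset.univ.sup N, fun m hm => ?_⟩
  set M := Finset.univ.sup N
  have hle : f M ≤ f m := f.monotone hm
  have hiso : IsIso ((f M).ofLE (f m) hle) := by
    refine Groth.Agent.Etcore.PullJoint.isIso_of_pull c hc _ fun i => ?_
    have h1 : Subobject.mk ((EtCoh.pull (c i)).map (f m).arrow) ≤ Subobject.mk ((EtCoh.pull (c i)).map (f M).arrow) := by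
      rw [← hN i m (le_trans (Finset.le_sup (Finset.mem_univ i)) hm),
        ← hN i M (Finset.le_sup (Finset.mem_univ i))]
    let t := Subobject.ofMkLEMk _ _ h1
    have ht : t ≫ (EtCoh.pull (c i)).map (f M).arrow = (EtCoh.pull (c i)).map (f m).arrow :=
      Subobject.ofMkLEMk_comp h1
    have h3 : (EtCoh.pull (c i)).map ((f M).ofLE (f m) hle) ≫ (EtCoh.pull (c i)).map (f m).arrow =
        (EtCoh.pull (c i)).map (f M).arrow := by
      rw [← Functor.map_comp, Subobject.ofLE_arrow]
    refine ⟨t, ?_, ?_⟩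
    · rw [← cancel_mono ((EtCoh.pull (c i)).map (f M).arrow), Category.assoc, ht, h3, Category.id_comp]
    · rw [← cancel_mono ((EtCoh.pull (c i)).map (f m).arrow), Category.assoc, h3, ht, Category.id_comp]
  refine le_antisymm hle ?_
  have : inv ((f M).ofLE (f m) hle) ≫ (f M).arrow = (f m).arrow := by
    rw [IsIso.inv_comp_eq, Subobject.ofLE_arrow]
  exact Subobject.le_of_comm _ this

theorem cn_of_pull {n : ℕ} (hn : 0 < n) {X : Scheme.{u}} [IsNoetherian X] {ι : Type*} [Finite ι]
    {Z : ι → Scheme.{u}} [∀ i, IsNoetherian (Z i)] (c : ∀ i, Z i ⟶ X)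
    (hc : ∀ x : X, ∃ (i : ι) (z : Z i), (c i) z = x) (G : EtCoh.Ab X)
    (hG : ∃ k : ℕ, EtCoh.KilledBy (n ^ k) G)
    (h : ∀ i, Cn n (Z i) ((EtCoh.pull (c i)).obj G)) : Cn n X G := by
  obtain ⟨k, hk⟩ := hG
  have h1 : ∀ i, IsNoetherianObject ((EtCoh.pull (c i)).obj G) := fun i =>
    Sga5.EtNoeth.isNoetherianObject_of_isConstructible (h i).1
  have h2 := isNoetherianObject_of_pull c hc G h1
  exact ⟨Sga5.EtNoeth.isConstructible_of_isNoetherianObject (Nat.pow_pos hn) hk, k, hk⟩

/-- The same, for one surjective morphism. -/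
theorem cn_of_pull_one {n : ℕ} (hn : 0 < n) {X Z : Scheme.{u}} [IsNoetherian X] [IsNoetherian Z] (c : Z ⟶ X)
    (hc : Function.Surjective c) (G : EtCoh.Ab X)
    (hG : ∃ k : ℕ, EtCoh.KilledBy (n ^ k) G)
    (h : Cn n Z ((EtCoh.pull c).obj G)) : Cn n X G :=
  cn_of_pull hn (ι := Unit) (fun _ => c) (fun x => ⟨(), hc x⟩) G hG fun _ => h

end K555.CnDesc
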