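import Groth.Agent.EtDl.K555.FinRed
import Groth.Agent.Ega4dA.CplNormal
import Groth.Agent.Ega4dA.SmoothStalk
import Groth.Agent.SGA1.K151.AnRed
import Groth.Agent.CalgB.RegHom7
import Groth.Agent.Ega4C.GeomCompReg
import Groth.Agent.S0543
import Groth.Agent.S2260
import Groth.Agent.Lefpen.H416.NormalBase
import Mathlib.RingTheory.AdicCompletion.LocalRing

/-!
# Assembly of the constructibility of direct images over excellent `ℚ`-schemes

* `LeafHyp q`: the leaves.
* `SpreadCert`: spreading out of certificates along regular morphisms to smooth neighbourhoods.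
* `LocCert`: certificates over complete local domains.
* `goodNormal`: `GoodNormal q`; `main`: the theorem.
-/

set_option autoImplicit false
universe u

open CategoryTheory CategoryTheory.Limits AlgebraicGeometry IsLocalRing

namespace K555.FinAsm

open K556.GoodDef K556.CertDef K555.LerayCn K555.GoodRules K555.FinRed Groth.Agent Groth.Agent.Sga4h
open Groth.Agent.Sga4h.ConsWO
open Groth.Agent.Etdl.H434.Emb Groth.Agent.Etdl.H434.FinInd Groth.Agent.Sga4h.PushDer
open Groth.Agent.Sga4h.FinD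

/-- The leaves. -/
def LeafHyp (q : ℕ) : Prop :=
  ∀ (R : Type u) [CommRing R] {ι : Type} [Finite ι] (z : ι → R), SNC R z →
    ExcQ (Spec (CommRingCat.of R)) → ∀ V : (Spec (CommRingCat.of R)).Opens,
      (∀ p : Spec (CommRingCat.of R), p ∈ V ↔ ∀ i, z i ∉ p.asIdeal) → Good.{u} q (Spec (CommRingCat.of R)) V

/-- Spreading out of certificates. -/
def SpreadCert : Prop :=
  ∀ (B : Type u) [CommRing B] [IsDomain B] [IsIntegrallyClosed B], ExcQ (Spec (CommRingCat.of B)) →
  ∀ (O : Type u) [CommRing O] [IsDomain O] [IsLocalRing O] [IsNoetherianRing O] [Algebra B O],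
    CAlg.IsRegularHom B O →
    ∀ (U : (Spec (CommRingCat.of B)).Opens) (V0 : (Spec (CommRingCat.of O)).Opens),
      (V0 : Set (Spec (CommRingCat.of O))).Nonempty →
      V0 ≤ (Spec.map (CommRingCat.ofHom (algebraMap B O))) ⁻¹ᵁ U → Cert (Spec (CommRingCat.of O)) V0 →
      ∃ (S1 : Scheme.{u}) (p : S1 ⟶ Spec (CommRingCat.of B)) (t : Spec (CommRingCat.of O) ⟶ S1) (V1 : S1.Opens),
        Smooth p ∧ QuasiCompact p ∧ t ≫ p = Spec.map (CommRingCat.ofHom (algebraMap B O)) ∧ V1 ≤ p ⁻¹ᵁ U ∧
          ((t ⁻¹ᵁ V1 : (Spec (CommRingCat.of O)).Opens) : Set (Spec (CommRingCat.of O))).Nonempty ∧ Cert S1 V1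

/-- Certificates over complete local domains. -/
def LocCert : Prop :=
  ∀ (O : Type u) [CommRing O] [IsDomain O] [IsLocalRing O] [IsNoetherianRing O] [Algebra ℚ O]
    [IsAdicComplete (maximalIdeal O) O] (V0 : (Spec (CommRingCat.of O)).Opens),
    (V0 : Set (Spec (CommRingCat.of O))).Nonempty →
    ∃ V : (Spec (CommRingCat.of O)).Opens, V ≤ V0 ∧ (V : Set (Spec (CommRingCat.of O))).Nonempty ∧
      Cert (Spec (CommRingCat.of O)) V

variable {q : ℕ}

/-- `Good` restricts to open subschemes. -/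
theorem good_restrict {X : Scheme.{u}} (hX : ExcQ X) (W : X.Opens) (V : X.Opens) (h : Good q X V) :
    Good q (W : Scheme.{u}) (W.ι ⁻¹ᵁ V) := by
  intro n hn M _ _ hM
  have hN := hX.noeth
  have hW : ExcQ (W : Scheme.{u}) := hX.of_finiteType W.ι
  have hNW : IsNoetherian (W : Scheme.{u}) := hW.noeth
  obtain ⟨e⟩ := Etdl.H434.Core.rpush_etale (isPullback_morphismRestrict W.ι V).flip.flip
    (EtCoh.const (V : Scheme.{u}) M) q
  refine Cn.iso (e ≪≫ (EtCoh.Rpush _ q).mapIso (EtCore.pullConst (W.ι ∣_ V) M)) ?_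
  exact cn_pull W.ι (h n hn M hM)

theorem algebraRat (B : Type u) [CommRing B] (h : ExcQ (Spec (CommRingCat.of B))) : Nonempty (Algebra ℚ B) := by
  obtain ⟨t⟩ := h.rat
  obtain ⟨φ, -⟩ := Spec.map_surjective t
  exact ⟨((φ.hom : ULift.{u} ℚ →+* B).comp (ULift.ringEquiv (R := ℚ)).symm.toRingHom).toAlgebra⟩

/-- A smooth neighbourhood of a point. -/
theorem exists_nhd (IH : FinUpTo.{u} q) (L : LeafHyp.{u} q) (D : SpreadCert.{u}) (N : LocCert.{u})
    (B : Type u) [CommRing B] [IsDomain B] [IsIntegrallyClosed B] (hB : ExcQ (Spec (CommRingCat.of B)))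
    (V : (Spec (CommRingCat.of B)).Opens) (hV : (V : Set (Spec (CommRingCat.of B))).Nonempty)
    (s : Spec (CommRingCat.of B)) :
    ∃ (Y : Scheme.{u}) (f : Y ⟶ Spec (CommRingCat.of B)), Smooth f ∧ QuasiCompact f ∧ s ∈ Set.range f ∧
      Good q Y (f ⁻¹ᵁ V) := by
  have hNB := hB.noeth
  have hexc := hB.isExcellent_of_spec
  have hNr : IsNoetherianRing B := hexc.1
  obtain ⟨hQ⟩ := algebraRat B hB
  let p : Ideal B := s.asIdeal
  have hp : p.IsPrime := s.isPrime
  let O : Type u := AdicCompletion (maximalIdeal (Localization.AtPrime p)) (Localization.AtPrime p)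
  have hON : IsNoetherianRing O := Groth.Agent.S0543.result _ _
  have hreg : CAlg.IsRegularHom (Localization.AtPrime p) O := hexc.2.2.1.2 p
  have hreg1 : CAlg.IsRegularHom B (Localization.AtPrime p) :=
    Groth.Agent.CalgB.RegHom7.isRegularHom_of_isLocalization _ p.primeCompl
  have hregB : CAlg.IsRegularHom B O :=
    Groth.Agent.Ega4C.GeomCompReg.isRegularHom_comp B (Localization.AtPrime p) _ hreg1 hreg
  have hic : IsIntegrallyClosed (Localization.AtPrime p) :=
    isIntegrallyClosed_of_isLocalization _ p.primeCompl (Ideal.primeCompl_le_nonZeroDivisors p)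
  have hdom := Groth.Agent.Ega4dA.CplNormal.normal_cpl _ hreg
  have hOD : IsDomain O := hdom.1
  have hOc : IsAdicComplete (maximalIdeal O) O := K151.AnRed.isAdicComplete_cpl (Localization.AtPrime p)
  let hQO : Algebra ℚ O := ((algebraMap B O).comp (algebraMap ℚ B)).toAlgebra
  let τ : Spec (CommRingCat.of O) ⟶ Spec (CommRingCat.of B) := Spec.map (CommRingCat.ofHom (algebraMap B O))
  -- the generic point of `O` lies over the generic point of `B`
  have hflat : Module.Flat B O := hregB.1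
  have hinj : Function.Injective (algebraMap B O) := by
    have h1 : Function.Injective (algebraMap B (Localization.AtPrime p)) :=
      IsLocalization.injective _ (Ideal.primeCompl_le_nonZeroDivisors p)
    have h2 : Function.Injective (algebraMap (Localization.AtPrime p) O) := by
      have := hreg.1
      have h3 : Module.FaithfullyFlat (Localization.AtPrime p) O := Module.FaithfullyFlat.of_flat_of_isLocalHom
      exact FaithfulSMul.algebraMap_injective _ _
    have h4 : (algebraMap B O) = (algebraMap (Localization.AtPrime p) O).comp (algebraMap B _) :=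
      IsScalarTower.algebraMap_eq _ _ _
    rw [h4]
    exact h2.comp h1
  let η : Spec (CommRingCat.of O) := (⟨⊥, Ideal.isPrime_bot⟩ : PrimeSpectrum O)
  have hη : ∀ W : (Spec (CommRingCat.of O)).Opens, (W : Set (Spec (CommRingCat.of O))).Nonempty → η ∈ W := by
    rintro W ⟨w, hw⟩
    have h1 : η ⤳ w := (PrimeSpectrum.le_iff_specializes η w).1 (bot_le (a := w.asIdeal))
    exact h1.mem_open W.2 hw
  have hτη : (τ η).asIdeal = ⊥ := by
    change Ideal.comap (algebraMap B O) ⊥ = ⊥
    rw [← RingHom.ker_eq_comap_bot]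
    exact (RingHom.injective_iff_ker_eq_bot _).1 hinj
  have hVO : ((τ ⁻¹ᵁ V : (Spec (CommRingCat.of O)).Opens) : Set (Spec (CommRingCat.of O))).Nonempty := by
    obtain ⟨v, hv⟩ := hV
    refine ⟨η, ?_⟩
    have h1 : τ η ⤳ v := (PrimeSpectrum.le_iff_specializes (τ η) v).1 (by
      change (τ η).asIdeal ≤ v.asIdeal
      rw [hτη]; exact bot_le)
    exact h1.mem_open V.2 hv
  obtain ⟨V0, hV0, hV0n, hcert⟩ := N O (τ ⁻¹ᵁ V) hVO
  obtain ⟨S1, π, t, V1, hπ, hπc, htπ, hV1, hV1n, hcert1⟩ := D B hB O hregB V V0 hV0n hV0 hcert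
  have hS1 : ExcQ S1 := hB.of_finiteType π
  have hNS1 := hS1.noeth
  let c : Spec (CommRingCat.of O) := closedPoint O
  have hτc : τ c = s := by
    refine PrimeSpectrum.ext ?_
    change Ideal.comap (algebraMap B O) (maximalIdeal O) = p
    have h1 : (algebraMap B O) = (algebraMap (Localization.AtPrime p) O).comp (algebraMap B _) :=
      IsScalarTower.algebraMap_eq _ _ _
    have hloc : IsLocalHom (algebraMap (Localization.AtPrime p) O) := inferInstance
    have h2 : Ideal.comap (algebraMap (Localization.AtPrime p) O) (maximalIdeal O) = maximalIdeal _ :=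
      ((IsLocalRing.local_hom_TFAE (algebraMap (Localization.AtPrime p) O)).out 0 4).1 hloc
    rw [h1, ← Ideal.comap_comap, h2]
    exact Localization.AtPrime.under_maximalIdeal
  have hnormB : Pi1.IsNormalScheme (Spec (CommRingCat.of B)) := Groth.Agent.Lefpen.H416.NormalBase.isNormalScheme_spec B
  obtain ⟨hd1, -⟩ := Groth.Agent.Ega4dA.SmoothStalk.stalk_of_smooth hnormB π (t c)
  obtain ⟨W, hcW, hW⟩ := Groth.Agent.S2260.result S1 (t c)
  have hExW : ExcQ (W : Scheme.{u}) := hS1.of_finiteType W.ι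
  have hNW := hExW.noeth
  refine ⟨W, W.ι ≫ π, inferInstance, inferInstance, ⟨⟨t c, hcW⟩, ?_⟩, ?_⟩
  · rw [Scheme.Hom.comp_apply]
    change π (t c) = s
    rw [← Scheme.Hom.comp_apply, htπ]
    exact hτc
  · have hG1 : Good q S1 V1 := good_of_cert IH (fun R _ ι _ z => L R z) hcert1 hS1
    have hG2 := good_restrict hS1 W V1 hG1
    refine good_of_le IH hExW (W.ι ⁻¹ᵁ V1) _ (fun x hx => hV1 hx) (fun x _ => ?_) hG2
    -- the generic point of `W`
    have hηc : η ⤳ c := (PrimeSpectrum.le_iff_specializes η c).1 (bot_le (a := c.asIdeal))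
    have htη : t η ∈ V1 := hη _ hV1n
    have htηW : t η ∈ W := (hηc.map t.continuous).mem_open W.2 hcW
    have hgen : genericPoint W ∈ W.ι ⁻¹ᵁ V1 := by
      have h1 : genericPoint (W : Scheme.{u}) ⤳ (⟨t η, htηW⟩ : W) := genericPoint_specializes _
      exact h1.mem_open (W.ι ⁻¹ᵁ V1).2 htη
    exact ⟨genericPoint W, hgen, genericPoint_specializes _⟩

/-- The case of open subsets of normal integral affine schemes. -/
theorem goodNormal (IH : FinUpTo.{u} q) (L : LeafHyp.{u} q) (D : SpreadCert.{u}) (N : LocCert.{u}) :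
    GoodNormal.{u} q := by
  intro B _ _ _ hB V hV
  have hNB := hB.noeth
  choose Y f h1 h2 h3 h4 using fun s => exists_nhd IH L D N B hB V hV s
  have hopen : ∀ s, IsOpen (Set.range (f s)) := fun s => (f s).isOpenMap.isOpen_range
  obtain ⟨T, hT⟩ := isCompact_univ.elim_finite_subcover (fun s => Set.range (f s)) hopen
    (fun x _ => Set.mem_iUnion.2 ⟨x, h3 x⟩)
  let e := T.equivFin
  refine good_of_smooth hB (k := T.card) (fun a => Y (e.symm a).1) (fun a => f (e.symm a).1) (fun x => ?_) V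
    fun a => h4 _
  obtain ⟨s, hs, hx⟩ := Set.mem_iUnion₂.1 (hT (Set.mem_univ x))
  exact ⟨e ⟨s, hs⟩, by rw [e.symm_apply_apply]; exact hx⟩

/-- Finiteness over excellent `ℚ`-schemes. -/
theorem finUpTo (L : ∀ q, LeafHyp.{u} q) (D : SpreadCert.{u}) (N : LocCert.{u}) (q : ℕ) : FinUpTo.{u} q :=
  finUpTo_all (fun q IH => goodNormal IH (L q) D N) q

/-- The theorem. -/
theorem main (H : ∀ q, FinUpTo.{u} q) {X S : Scheme.{u}} [IsLocallyNoetherian S]
    (qS : S ⟶ Spec (CommRingCat.of (ULift.{u} ℚ)))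
    (hexc : ∀ V : S.affineOpens, EGA4.IsExcellent Γ(S, V.1))
    (f : X ⟶ S) [LocallyOfFiniteType f] [QuasiCompact f]
    (F : EtCoh.Ab X) (hF : EtPBC.IsConstructible F) (n : ℕ) (hn : 0 < n) (hFn : EtCoh.KilledBy n F) (q : ℕ) :
    EtPBC.IsConstructible ((EtCoh.Rpush f q).obj F) := by
  refine EtpbcA.StrataGlob.isConstructible_of_openImmersions _ (ι := S.affineOpens)
    (fun W => (W.1 : Scheme.{u})) (fun W => W.1.ι) (fun x => ?_) (fun W => ?_)
  · obtain ⟨W, hW, hxW, -⟩ := exists_isAffineOpen_mem_and_subset (x := x) (U := ⊤) trivial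
    exact ⟨⟨W, hW⟩, ⟨x, hxW⟩, rfl⟩
  · have hsq : IsPullback (pullback.fst f W.1.ι) (pullback.snd f W.1.ι) f W.1.ι := IsPullback.of_hasPullback _ _
    obtain ⟨e⟩ := Etdl.H434.Core.rpush_etale hsq F q
    refine EtpbcA.StrataGlob.isConstructible_of_iso e.symm ?_
    have hW : IsAffine (W.1 : Scheme.{u}) := W.2
    have hE : ExcQ (W.1 : Scheme.{u}) := by
      refine ExcQ.of_isAffine ⟨W.1.ι ≫ qS⟩ ?_
      exact K555.ExcFT.isExcellent_of_ringEquiv W.1.topIso.symm.commRingCatIsoToRingEquiv (hexc W)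
    have hN := hE.noeth
    have hG : Cn n _ ((EtCoh.pull (pullback.fst f W.1.ι)).obj F) :=
      cn_pull _ ⟨hF, 1, by rwa [pow_one]⟩
    exact (H (q + 1) q (Nat.lt_succ_self q) hE (pullback.snd f W.1.ι) n hn _ hG).1

end K555.FinAsm
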