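import Groth.Agent.EtDl.K555.GoodRules
import Groth.Agent.Etdl.H434.SOAux
import Groth.Agent.Sga4h.NcGeom
import Groth.Agent.S2654
import Groth.Agent.S0143

/-!
# Reduction of the constructibility of direct images to open subsets of integral normal affine schemes

`finUpTo_succ`: `FinUpTo q` and `Good q (Spec B) V` for all excellent normal domains `B ⊇ ℚ` and nonempty open
subsets `V` imply `FinUpTo (q + 1)`.
-/

set_option autoImplicit false
universe u

open CategoryTheory CategoryTheory.Limits AlgebraicGeometry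

namespace K555.FinRed

open K556.GoodDef K555.LerayCn K555.GoodRules Groth.Agent Groth.Agent.Sga4h Groth.Agent.Sga4h.ConsWO
open Groth.Agent.Etdl.H434.Emb Groth.Agent.Etdl.H434.FinInd Groth.Agent.Sga4h.PushDer
open Groth.Agent.Sga4h.FinD

variable {q : ℕ}

/-- The hypothesis: integral normal affine schemes. -/
def GoodNormal (q : ℕ) : Prop :=
  ∀ (B : Type u) [CommRing B] [IsDomain B] [IsIntegrallyClosed B], ExcQ (Spec (CommRingCat.of B)) →
    ∀ V : (Spec (CommRingCat.of B)).Opens, (V : Set (Spec (CommRingCat.of B))).Nonempty →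
      Good.{u} q (Spec (CommRingCat.of B)) V

/-- Sheaves on the empty scheme. -/
theorem good_of_isEmpty {X : Scheme.{u}} (V : X.Opens) (hV : IsEmpty (V : Scheme.{u})) : Good q X V := by
  intro n hn M _ _ hM
  have h0 : IsZero (EtCoh.const (V : Scheme.{u}) M) := by
    refine Etcore.PullJoint.isZero_of_pull (ι := Empty) (Y := fun _ => (V : Scheme.{u})) (fun i => i.elim)
      (fun x => (hV.false x).elim) _ (fun i => i.elim)
  exact (weakSerre_Cn n X).zero _ ((EtCoh.Rpush V.ι q).map_isZero h0)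

/-- A finite family of finite morphisms from normal domains, jointly surjective. -/
theorem exists_normal_cover (C : Type u) [CommRing C] (hC : EGA4.IsExcellent C) :
    ∃ (r : ℕ) (B : Fin r → CommRingCat.{u}) (φ : ∀ i, C →+* B i), (∀ i, IsDomain (B i)) ∧
      (∀ i, IsIntegrallyClosed (B i)) ∧ (∀ i, (φ i).Finite) ∧
      ∀ x : PrimeSpectrum C, ∃ (i : Fin r) (y : PrimeSpectrum (B i)), y.comap (φ i) = x := by
  have hN : IsNoetherianRing C := hC.1
  have hNag : CAlg.IsNagata C := Groth.Agent.S2654.result C ⟨hC.1, hC.2.2.1, hC.2.2.2⟩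
  have hfin : Finite (minimalPrimes C) := (minimalPrimes.finite_of_isNoetherianRing _).to_subtype
  obtain ⟨r, ⟨e⟩⟩ := Finite.exists_equiv_fin (minimalPrimes C)
  have hp : ∀ p : minimalPrimes C, p.1.IsPrime := fun p => p.2.1.1
  have hdom : ∀ i, IsDomain (C ⧸ (e.symm i).1) := fun i => by
    have := hp (e.symm i)
    infer_instance
  let B : Fin r → CommRingCat.{u} := fun i =>
    CommRingCat.of (integralClosure (C ⧸ (e.symm i).1) (FractionRing (C ⧸ (e.symm i).1)))
  let ψ : ∀ i, (C ⧸ (e.symm i).1) →+* B i := fun i => algebraMap _ _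
  refine ⟨r, B, fun i => (ψ i).comp (Ideal.Quotient.mk _), fun i => ?_, fun i => ?_, fun i => ?_, fun x => ?_⟩
  · have := hdom i
    change IsDomain (integralClosure (C ⧸ (e.symm i).1) (FractionRing (C ⧸ (e.symm i).1)))
    infer_instance
  · have := hdom i
    exact integralClosure.isIntegrallyClosedOfFiniteExtension
      (R := C ⧸ (e.symm i).1) (K := FractionRing (C ⧸ (e.symm i).1)) (L := FractionRing (C ⧸ (e.symm i).1))
  · have := hdom i
    have := hp (e.symm i)
    have h1 : Module.Finite (C ⧸ (e.symm i).1)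
        (integralClosure (C ⧸ (e.symm i).1) (FractionRing (C ⧸ (e.symm i).1))) :=
      hNag.2 (e.symm i).1 (FractionRing (C ⧸ (e.symm i).1)) inferInstance
    exact RingHom.Finite.comp (RingHom.finite_algebraMap.2 h1)
      (RingHom.Finite.of_surjective _ Ideal.Quotient.mk_surjective)
  · obtain ⟨p, hp1, hp2⟩ := Ideal.exists_minimalPrimes_le (I := ⊥) (J := x.asIdeal) bot_le
    refine ⟨e ⟨p, hp1⟩, ?_⟩
    have hpe : (e.symm (e ⟨p, hp1⟩)).1 = p := by rw [e.symm_apply_apply]
    have h1 : x ∈ Set.range (PrimeSpectrum.comap (Ideal.Quotient.mk (e.symm (e ⟨p, hp1⟩)).1)) := by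
      rw [range_comap_of_surjective _ _ Ideal.Quotient.mk_surjective, Ideal.mk_ker,
        PrimeSpectrum.mem_zeroLocus, hpe]
      exact hp2
    obtain ⟨z, hz⟩ := h1
    have := hdom (e ⟨p, hp1⟩)
    have hint : Algebra.IsIntegral (C ⧸ (e.symm (e ⟨p, hp1⟩)).1)
        (integralClosure (C ⧸ (e.symm (e ⟨p, hp1⟩)).1) (FractionRing (C ⧸ (e.symm (e ⟨p, hp1⟩)).1))) :=
      inferInstance
    obtain ⟨w, hw⟩ := Algebra.IsIntegral.comap_surjective (C ⧸ (e.symm (e ⟨p, hp1⟩)).1)
        (integralClosure (C ⧸ (e.symm (e ⟨p, hp1⟩)).1) (FractionRing (C ⧸ (e.symm (e ⟨p, hp1⟩)).1))) z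
    refine ⟨w, ?_⟩
    rw [← hz, ← hw]
    rfl

/-- The case of open subsets of affine schemes, constant coefficients. -/
theorem good_affine (IH : FinUpTo.{u} q) (N : GoodNormal.{u} q) (C : Type u) [CommRing C]
    (hC : ExcQ (Spec (CommRingCat.of C))) (V : (Spec (CommRingCat.of C)).Opens) :
    Good.{u} q (Spec (CommRingCat.of C)) V := by
  obtain ⟨r, B, φ, h1, h2, h3, h4⟩ := exists_normal_cover C hC.isExcellent_of_spec
  have hfin : ∀ i, IsFinite (Spec.map (CommRingCat.ofHom (φ i))) := fun i =>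
    (IsFinite.SpecMap_iff _).2 (h3 i)
  refine good_of_proper IH hC (fun i => Spec (B i)) (fun i => Spec.map (CommRingCat.ofHom (φ i))) V
    (fun x _ => ?_) fun i => ?_
  · obtain ⟨i, y, hy⟩ := h4 x
    exact ⟨i, y, hy⟩
  · have := h1 i
    have := h2 i
    have hE : ExcQ (Spec (B i)) := hC.of_finiteType (Spec.map (CommRingCat.ofHom (φ i)))
    by_cases hV : (((Spec.map (CommRingCat.ofHom (φ i))) ⁻¹ᵁ V : (Spec (B i)).Opens) : Set (Spec (B i))).Nonempty
    · exact N (B i) hE _ hV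
    · refine good_of_isEmpty _ ?_
      rw [Set.not_nonempty_iff_eq_empty] at hV
      exact ⟨fun x => by
        have : x.1 ∈ (((Spec.map (CommRingCat.ofHom (φ i))) ⁻¹ᵁ V : (Spec (B i)).Opens) : Set (Spec (B i))) := x.2
        rw [hV] at this
        exact this⟩

theorem good_affine' (IH : FinUpTo.{u} q) (N : GoodNormal.{u} q) {T : Scheme.{u}} [IsAffine T] (hT : ExcQ T)
    (V : T.Opens) : Good.{u} q T V :=
  good_of_iso hT T.isoSpec.inv V (good_affine IH N Γ(T, ⊤) (hT.of_finiteType T.isoSpec.inv) _)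

/-- Open subsets of affine schemes, arbitrary constructible coefficients. -/
theorem cn_opens_affine (IH : FinUpTo.{u} q) (N : GoodNormal.{u} q) {P : Scheme.{u}} [IsAffine P] (hP : ExcQ P)
    (U : P.Opens) (n : ℕ) (hn : 0 < n) (F : EtCoh.Ab (U : Scheme.{u})) (hF : Cn n _ F) :
    Cn n P ((EtCoh.Rpush U.ι q).obj F) := by
  have hNP : IsNoetherian P := hP.noeth
  have hU : ExcQ (U : Scheme.{u}) := hP.of_finiteType U.ι
  have hNU : IsNoetherian (U : Scheme.{u}) := hU.noeth
  have hE : Cn n P ((EtShriek.extZero U.ι).obj F) :=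
    ⟨Groth.Agent.Etrest.ConsClass.isConstructible_extZero U.ι F hF.1,
      hF.2.imp fun _ hk => Sga4B.ShriekTools.killedBy_extZero U.ι _ F hk⟩
  obtain ⟨r, Y, t, ht, M, _, _, hι⟩ := Groth.Agent.S0143.result P _ hE.1
  have hb : ∀ i, EtCoh.BCCont (t i) := fun i => EtCoh.bcCont _
  obtain ⟨ι, hι⟩ := hι
  have hYa : ∀ i, IsAffine (Y i) := fun i => isAffine_of_isAffineHom (t i)
  have hY : ∀ i, ExcQ (Y i) := fun i => hP.of_finiteType (t i)
  have hNY : ∀ i, IsNoetherian (Y i) := fun i => (hY i).noeth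
  have hYU : ∀ i, ExcQ ((t i ⁻¹ᵁ U : (Y i).Opens) : Scheme.{u}) := fun i => (hY i).of_finiteType (t i ⁻¹ᵁ U).ι
  have hNYU : ∀ i, IsNoetherian ((t i ⁻¹ᵁ U : (Y i).Opens) : Scheme.{u}) := fun i => (hYU i).noeth
  have hsq : ∀ i, IsPullback (t i ∣_ U) (t i ⁻¹ᵁ U).ι U.ι (t i) := fun i => isPullback_morphismRestrict (t i) U
  have hfin : ∀ i, IsFinite (t i ∣_ U) := fun i =>
    MorphismProperty.of_isPullback (P := @IsFinite) (hsq i).flip inferInstance
  let K : ℕ := n * ∏ i, Nat.card (M i)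
  have hK : 0 < K := Nat.mul_pos hn (Finset.prod_pos fun i _ => card_pos (M i))
  have hKM : ∀ i (x : M i), K • x = 0 := by
    intro i x
    obtain ⟨d, hd⟩ : Nat.card (M i) ∣ K :=
      (Finset.dvd_prod_of_mem (fun i => Nat.card (M i)) (Finset.mem_univ i)).mul_left n
    rw [hd, mul_comm, mul_smul, card_nsmul, smul_zero]
  have hFK : Cn K _ F := Cn.of_dvd (Dvd.intro _ rfl) hF
  let Q : Fin r → EtCoh.Ab P := fun i => (EtCoh.push (t i)).obj (EtCoh.const (Y i) (M i))
  have hQ : ∀ i, Cn K P (Q i) := fun i => cn_push_finite (t i) (cn_const (Y i) (M i) (hKM i))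
  let Q' : Fin r → EtCoh.Ab (U : Scheme.{u}) := fun i => (EtCoh.pull U.ι).obj (Q i)
  have hQ' : ∀ i, Cn K _ (Q' i) := fun i => cn_pull U.ι (hQ i)
  have hpfl : PreservesFiniteLimits (EtCoh.pull U.ι) := Groth.Agent.S0101.result _
  let eB : (EtCoh.pull U.ι).obj (⨁ Q) ≅ ⨁ Q' := (EtCoh.pull U.ι).mapBiproduct Q
  let ι' : F ⟶ ⨁ Q' := (Sga4B.ShriekTools.pullExtZeroIso U.ι F).inv ≫ (EtCoh.pull U.ι).map ι ≫ eB.hom
  have hι' : Mono ι' := by
    have : Mono ((EtCoh.pull U.ι).map ι) := inferInstance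
    infer_instance
  have hBi : Cn K _ (⨁ Q') :=
    Etdl.H434.Emb.biproduct (weakSerre_Cn K _) (fun ι _ => Cn.of_mono ι) _ hQ'
  refine cn_rpush_of_dvd U.ι hF q (m := K) ?_
  refine cn_rpush_of_mono U.ι ι' q (fun b hb => ?_) (cn_rpush_biproduct U.ι _ q fun i => ?_)
  · exact IH b (by omega) hP U.ι K hK _ ((weakSerre_Cn K _).coker _ hFK hBi)
  · -- `j^* t_* M = t'_* M`
    obtain ⟨e0⟩ := Etdl.H434.Core.rpush_etale (hsq i).flip (EtCoh.const (Y i) (M i)) 0
    have e1 : Q' i ≅ (EtCoh.push (t i ∣_ U)).obj (EtCoh.const _ (M i)) :=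
      (EtCoh.pull U.ι).mapIso ((rpushZeroIso (t i)).symm.app _) ≪≫ e0 ≪≫ (rpushZeroIso (t i ∣_ U)).app _ ≪≫
        (EtCoh.push (t i ∣_ U)).mapIso (EtCore.pullConst (t i ⁻¹ᵁ U).ι (M i))
    refine Cn.iso ((EtCoh.Rpush U.ι q).mapIso e1.symm) ?_
    refine Cn.iso (rpushFinite (t i ∣_ U) U.ι (EtCoh.const _ (M i)) q).symm ?_
    refine Cn.iso ((rpushCongr (hsq i).w q).symm.app _) ?_
    have : PreservesFiniteColimits (EtCoh.push (t i)) := Etdl.H434.Core.preservesFiniteColimits_push (t i)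
    refine Cn.iso (rpushExactIso (t i ⁻¹ᵁ U).ι (t i) _ q).symm (cn_push_finite (t i) ?_)
    exact good_affine' IH N (hY i) _ K hK (M i) (hKM i)

/-- Open immersions into affine schemes. -/
theorem cn_openImmersion_affine (IH : FinUpTo.{u} q) (N : GoodNormal.{u} q) {P : Scheme.{u}} [IsAffine P]
    (hP : ExcQ P) {X : Scheme.{u}} (j : X ⟶ P) [IsOpenImmersion j] (n : ℕ) (hn : 0 < n) (F : EtCoh.Ab X)
    (hF : Cn n _ F) : Cn n P ((EtCoh.Rpush j q).obj F) := by
  have hNP : IsNoetherian P := hP.noeth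
  have hU : ExcQ (j.opensRange : Scheme.{u}) := hP.of_finiteType j.opensRange.ι
  have hNU : IsNoetherian (j.opensRange : Scheme.{u}) := hU.noeth
  let e : X ⟶ (j.opensRange : Scheme.{u}) := j.isoOpensRange.hom
  have he : e ≫ j.opensRange.ι = j := j.isoOpensRange_hom_ι
  refine Cn.iso ((rpushCongr he q).app _) ?_
  refine Cn.iso (rpushFinite e j.opensRange.ι F q) ?_
  exact cn_opens_affine IH N hP j.opensRange n hn _ (cn_push_finite e hF)

/-- Open immersions. -/
theorem cn_openImmersion (IH : FinUpTo.{u} q) (N : GoodNormal.{u} q) {P : Scheme.{u}}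
    (hP : ExcQ P) {X : Scheme.{u}} (j : X ⟶ P) [IsOpenImmersion j] (n : ℕ) (hn : 0 < n) (F : EtCoh.Ab X)
    (hF : Cn n _ F) : Cn n P ((EtCoh.Rpush j q).obj F) := by
  have hNP : IsNoetherian P := hP.noeth
  refine ⟨EtpbcA.StrataGlob.isConstructible_of_openImmersions _ (ι := P.affineOpens)
    (fun W => (W.1 : Scheme.{u})) (fun W => W.1.ι) (fun x => ?_) (fun W => ?_),
    hF.2.imp fun _ hk => killedBy_rpush j hk q⟩
  · obtain ⟨W, hW, hxW, -⟩ := exists_isAffineOpen_mem_and_subset (x := x) (U := ⊤) trivial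
    exact ⟨⟨W, hW⟩, ⟨x, hxW⟩, rfl⟩
  · have hsq : IsPullback (pullback.fst j W.1.ι) (pullback.snd j W.1.ι) j W.1.ι := IsPullback.of_hasPullback _ _
    obtain ⟨e⟩ := Etdl.H434.Core.rpush_etale hsq F q
    refine EtpbcA.StrataGlob.isConstructible_of_iso e.symm ?_
    have hW : IsAffine (W.1 : Scheme.{u}) := W.2
    exact (cn_openImmersion_affine IH N (hP.of_finiteType W.1.ι) (pullback.snd j W.1.ι) n hn _ (cn_pull _ hF)).1

/-- Morphisms of affine schemes. -/
theorem cn_spec (IH : FinUpTo.{u} q) (N : GoodNormal.{u} q) (A B : Type u) [CommRing A] [CommRing B] [Algebra A B]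
    [Algebra.FiniteType A B] (hA : ExcQ (Spec (CommRingCat.of A))) (n : ℕ) (hn : 0 < n)
    (F : EtCoh.Ab (Spec (CommRingCat.of B))) (hF : Cn n _ F) :
    Cn n _ ((EtCoh.Rpush (Spec.map (CommRingCat.ofHom (algebraMap A B))) q).obj F) := by
  have hNA : IsNoetherian (Spec (CommRingCat.of A)) := hA.noeth
  obtain ⟨S, hS⟩ := (inferInstance : Algebra.FiniteType A B).out
  have hS' : Algebra.adjoin A (Set.range (fun i : Fin S.card => ((S.equivFin.symm i : S) : B))) = ⊤ := by
    rw [← hS]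
    congr 1
    ext x
    constructor
    · rintro ⟨i, rfl⟩
      exact (S.equivFin.symm i).2
    · intro hx
      exact ⟨S.equivFin ⟨x, hx⟩, by simp⟩
  obtain ⟨P, p, _, j, _, hj, -⟩ := NcGeom.W6 A S.card B _ hS'
  have hP : ExcQ P := hA.of_finiteType p
  refine Cn.iso ((rpushCongr hj q).app _) ?_
  refine rpush_comp_deg j p (mid_Cn n _) _ q fun a b hab => ?_
  refine Etdl.H441.PushCn.cn_rpush_proper p hn _ ?_ a
  by_cases hbq : b = q
  · subst hbq
    exact cn_openImmersion IH N hP j n hn F hF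
  · have : QuasiCompact j := by
      have hNP : IsNoetherian P := hP.noeth
      infer_instance
    exact IH b (by omega) hP j n hn F hF

/-- The inductive step. -/
theorem cn_rpush_step (IH : FinUpTo.{u} q) (N : GoodNormal.{u} q) {X S : Scheme.{u}} (hS : ExcQ S) (f : X ⟶ S)
    [LocallyOfFiniteType f] [QuasiCompact f] (n : ℕ) (hn : 0 < n) (F : EtCoh.Ab X) (hF : Cn n X F) :
    Cn n S ((EtCoh.Rpush f q).obj F) := by
  have hNS : IsNoetherian S := hS.noeth
  -- locality on the base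
  refine ⟨EtpbcA.StrataGlob.isConstructible_of_openImmersions _ (ι := S.affineOpens)
    (fun W => Spec Γ(S, W)) (fun W => W.2.fromSpec) (fun x => ?_) (fun W => ?_),
    hF.2.imp fun _ hk => killedBy_rpush f hk q⟩
  · obtain ⟨V, hV, hxV, -⟩ := exists_isAffineOpen_mem_and_subset (x := x) (U := ⊤) trivial
    exact ⟨⟨V, hV⟩, (Set.ext_iff.mp (IsAffineOpen.range_fromSpec hV) x).mpr hxV⟩
  let w := W.2.fromSpec
  have hw : IsOpenImmersion w := W.2.isOpenImmersion_fromSpec
  have hsq : IsPullback (pullback.fst f w) (pullback.snd f w) f w := IsPullback.of_hasPullback _ _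
  obtain ⟨e⟩ := Etdl.H434.Core.rpush_etale hsq F q
  refine EtpbcA.StrataGlob.isConstructible_of_iso e.symm ?_
  have hG : Cn n _ ((EtCoh.pull (pullback.fst f w)).obj F) := cn_pull _ hF
  generalize (EtCoh.pull (pullback.fst f w)).obj F = G at hG
  have hft : LocallyOfFiniteType (pullback.snd f w) := inferInstance
  have hqc : QuasiCompact (pullback.snd f w) := inferInstance
  have hA : ExcQ (Spec Γ(S, W)) := hS.of_finiteType w
  clear e hsq
  generalize pullback.snd f w = g at hft hqc ⊢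
  revert g
  generalize pullback f w = Z at G
  intro g hft hqc
  -- `g : Z ⟶ Spec A`
  have hZ : ExcQ Z := hA.of_finiteType g
  have hNZ : IsNoetherian Z := hZ.noeth
  have hNA : IsNoetherian (Spec Γ(S, W)) := hA.noeth
  let 𝒰 := Z.affineCover.finiteSubcover
  obtain ⟨r, ⟨ε⟩⟩ := Finite.exists_equiv_fin 𝒰.I₀
  let c : ∀ i : Fin r, 𝒰.X (ε.symm i) ⟶ Z := fun i => 𝒰.f (ε.symm i)
  have hcov : ∀ x : Z, ∃ (i : Fin r) (y : 𝒰.X (ε.symm i)), (c i) y = x := by
    intro x
    obtain ⟨y, hy⟩ := 𝒰.covers x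
    refine ⟨ε (𝒰.idx x), ?_⟩
    have : ε.symm (ε (𝒰.idx x)) = 𝒰.idx x := ε.symm_apply_apply _
    change ∃ y : 𝒰.X (ε.symm (ε (𝒰.idx x))), (𝒰.f (ε.symm (ε (𝒰.idx x)))) y = x
    rw [this]
    exact ⟨y, hy⟩
  have hcE : ∀ i, ExcQ (𝒰.X (ε.symm i)) := fun i => hZ.of_finiteType (c i)
  have hmono := mono_lift_unit c hcov G
  have hGi : ∀ i, Cn n _ ((EtCoh.pull (c i)).obj G) := fun i => cn_pull _ hG
  suffices key : Cn n _ ((EtCoh.Rpush g q).obj G) from key.1
  refine cn_rpush_of_mono (n := n) g (biproduct.lift (f := fun i => (EtCoh.push (c i)).obj ((EtCoh.pull (c i)).obj G))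
      (fun i => (EtCoh.pullPushAdj (c i)).unit.app G)) q (fun b hb => ?_)
      (cn_rpush_biproduct g _ q fun i => ?_)
  · refine IH b (by omega) hA g n hn _ ((weakSerre_Cn n _).coker _ hG ?_)
    exact Etdl.H434.Emb.biproduct (weakSerre_Cn n _) (fun ι _ => Cn.of_mono ι) _ fun i =>
      Cn.iso ((rpushZeroIso (c i)).app _) (IH 0 (by omega) hZ (c i) n hn _ (hGi i))
  · refine rpush_edge_deg (c i) g (mid_Cn n _) _ q (fun a b hb hab => ?_) ?_
    · exact IH a (by omega) hA g n hn _ (IH b (by omega) hZ (c i) n hn _ (hGi i))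
    · have haff : ∃ B : CommRingCat.{u}, 𝒰.X (ε.symm i) = Spec B := ⟨_, rfl⟩
      have hGG := hGi i
      have hft' : LocallyOfFiniteType (c i ≫ g) := inferInstance
      generalize (EtCoh.pull (c i)).obj G = G' at hGG
      generalize c i ≫ g = g' at hft' ⊢
      obtain ⟨B, hB⟩ := haff
      revert G' g'
      rw [hB]
      intro G' hGG g' hft'
      obtain ⟨φ, rfl⟩ := Spec.map_surjective g'
      have h2 : φ.hom.FiniteType :=
        (HasRingHomProperty.Spec_iff (P := @LocallyOfFiniteType)).1 hft'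
      let _ : Algebra Γ(S, W) B := φ.hom.toAlgebra
      have h3 : Algebra.FiniteType Γ(S, W) B := h2
      exact cn_spec IH N Γ(S, W) B hA n hn G' hGG

theorem finUpTo_succ (IH : FinUpTo.{u} q) (N : GoodNormal.{u} q) : FinUpTo.{u} (q + 1) := by
  intro p hp X S hS f _ _ n hn F hF
  rcases Nat.lt_succ_iff_lt_or_eq.1 hp with h | rfl
  · exact IH p h hS f n hn F hF
  · exact cn_rpush_step IH N hS f n hn F hF

theorem finUpTo_all (H : ∀ q : ℕ, FinUpTo.{u} q → GoodNormal.{u} q) (q : ℕ) : FinUpTo.{u} q := by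
  induction q with
  | zero => intro p hp; exact absurd hp (Nat.not_lt_zero p)
  | succ q ih => exact finUpTo_succ ih (H q ih)

end K555.FinRed
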