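import Groth.Agent.Sga4h.ConsWO
import Groth.Agent.Etdl.H434.Emb

/-!
# Leray in a fixed total degree, for Serre classes

`Mid Q`: closed under isomorphisms, zero objects and middle terms of exact sequences.

* `homology_TR_range`: `K ∈ D^{≥ b₀}`, `R^{n-b} G' (H^b K) ∈ Q` for `b₀ ≤ b ≤ n` imply `H^n(TR G' K) ∈ Q`.
* `rightDerived_comp_deg` (Lemma F): `R^a G' (R^b G X) ∈ Q` for `a + b = n` imply `R^n (G ⋙ G') X ∈ Q`.
* `rightDerived_edge_deg` (Lemma E): `R^n (G ⋙ G') X ∈ Q` and `R^a G' (R^b G X) ∈ Q` for `b ≥ 1`,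
  `a + b + 1 = n` imply `R^n G' (G X) ∈ Q`.
* `rpush_comp_deg`, `rpush_edge_deg`: the same for direct images of étale sheaves.
-/

set_option autoImplicit false
universe v v' v'' u u' u''
open CategoryTheory CategoryTheory.Limits

namespace K555.LerayCn

open DerivedCategory Groth.Agent.Etrest.RDer3 Groth.Agent.Sga4h.WayOut Groth.Agent

/-- Closed under isomorphisms, zero objects and middle terms of exact sequences. -/
structure Mid {B : Type u'} [Category.{v'} B] [Abelian B] (Q : ObjectProperty B) : Prop where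
  iso : ∀ {X Y : B}, (X ≅ Y) → Q X → Q Y
  zero : ∀ X : B, IsZero X → Q X
  mid : ∀ S : ShortComplex B, S.Exact → Q S.X₁ → Q S.X₃ → Q S.X₂

section general

variable {A : Type u} [Category.{v} A] [Abelian A] {B : Type u'} [Category.{v'} B] [Abelian B]
  {C : Type u''} [Category.{v''} C] [Abelian C] (G : A ⥤ B) [G.Additive] (G' : B ⥤ C) [G'.Additive]

attribute [local instance] HasDerivedCategory.standard

/-- `H^n(TR G' K) ∈ Q` for `K ∈ D^{≥ b₀}` with `R^a G' (H^b K) ∈ Q`, `a + b = n`, `b₀ ≤ b`. -/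
theorem homology_TR_range [EnoughInjectives B] [HasKInj B] {Q : ObjectProperty C} (hQ : Mid Q) (k : ℕ) :
    ∀ (b₀ : ℤ) (K : DerivedCategory B) (_ : K.IsGE b₀) (n : ℤ) (_ : n < b₀ + k)
      (_ : ∀ (a : ℕ) (b : ℤ), b₀ ≤ b → (a : ℤ) + b = n →
        Q ((G'.rightDerived a).obj ((homologyFunctor B b).obj K))),
      Q ((homologyFunctor C n).obj ((TR G').obj K)) := by
  induction k with
  | zero =>
    intro b₀ K hK n hn _
    have := TR_isGE G' K b₀
    exact hQ.zero _ (DerivedCategory.isZero_of_isGE _ b₀ n (by simpa using hn))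
  | succ k ih =>
    intro b₀ K hK n hn h
    by_cases hnb : n < b₀
    · have := TR_isGE G' K b₀
      exact hQ.zero _ (DerivedCategory.isZero_of_isGE _ b₀ n hnb)
    obtain ⟨X, Y, hX, hY, f, g, δ, hT⟩ := Cohder.KZDevissage.exists_trunc K b₀
    have hXa : X.IsGE b₀ := Cohder.KZDevissage.trunc₁_isGE hT b₀ b₀
    have hf : IsIso ((homologyFunctor B b₀).map f) := Cohder.KZDevissage.isIso_trunc₁ hT b₀ b₀ le_rfl
    obtain ⟨M, ⟨e⟩⟩ := exists_iso_singleFunctor_obj_of_isGE_of_isLE X b₀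
    have eM : (homologyFunctor B b₀).obj K ≅ M := (asIso ((homologyFunctor B b₀).map f)).symm ≪≫
        (homologyFunctor B b₀).mapIso e ≪≫ (singleFunctorCompHomologyFunctorIso B b₀).app M
    have hX' : Q ((homologyFunctor C n).obj ((TR G').obj X)) := by
      obtain ⟨e'⟩ := nonempty_iso_homology_single (TR G') M b₀ n (n - b₀) (by lia)
      obtain ⟨a, ha⟩ := Int.eq_ofNat_of_zero_le (sub_nonneg.2 (not_lt.1 hnb))
      refine hQ.iso ((homologyFunctor C n).mapIso ((TR G').mapIso e) ≪≫ e').symm ?_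
      rw [ha]
      refine hQ.iso ((HTRsingle G' a).app M).symm ?_
      exact hQ.iso ((G'.rightDerived a).mapIso eM) (h a b₀ le_rfl (by lia))
    have hY' : Q ((homologyFunctor C n).obj ((TR G').obj Y)) := by
      refine ih (b₀ + 1) Y hY n (by push_cast at hn; lia) (fun a b hb hab => ?_)
      have := Cohder.KZDevissage.isIso_trunc₂ hT b₀ b (by lia)
      exact hQ.iso ((G'.rightDerived a).mapIso (asIso ((homologyFunctor B b).map g))) (h a b (by lia) hab)
    have hFT := (TR G').map_distinguished _ hT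
    exact hQ.mid _ (HomologySequence.exact₂ _ hFT n) hX' hY'

/-- Lemma F. -/
theorem rightDerived_comp_deg [EnoughInjectives A] [HasKInj A] [EnoughInjectives B] [HasKInj B]
    (hG : ∀ I : CochainComplex A ℤ, I.IsKInjective →
      CochainComplex.IsKInjective ((G.mapHomologicalComplex (.up ℤ)).obj I))
    {Q : ObjectProperty C} (hQ : Mid Q) (X : A) (n : ℕ)
    (h : ∀ a b : ℕ, a + b = n → Q ((G'.rightDerived a).obj ((G.rightDerived b).obj X))) :
    Q (((G ⋙ G').rightDerived n).obj X) := by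
  have h₁ : ((TR G).obj ((singleFunctor A 0).obj X)).IsGE 0 := TR_isGE G _ 0
  have h₂ := homology_TR_range G' hQ (n + 1) 0 ((TR G).obj ((singleFunctor A 0).obj X)) h₁ n
    (by push_cast; lia) (fun a b hb hab => by
      obtain ⟨b, rfl⟩ := Int.eq_ofNat_of_zero_le hb
      exact hQ.iso ((G'.rightDerived a).mapIso ((HTRsingle G b).app X).symm) (h a b (by lia)))
  exact hQ.iso ((homologyFunctor C (n : ℤ)).mapIso ((TRcomp G G' hG).app _).symm ≪≫
    (HTRsingle (G ⋙ G') n).app X) h₂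

/-- Lemma E. -/
theorem rightDerived_edge_deg [EnoughInjectives A] [HasKInj A] [EnoughInjectives B] [HasKInj B]
    [PreservesFiniteLimits G]
    (hG : ∀ I : CochainComplex A ℤ, I.IsKInjective →
      CochainComplex.IsKInjective ((G.mapHomologicalComplex (.up ℤ)).obj I))
    {Q : ObjectProperty C} (hQ : Mid Q) (X : A) (n : ℕ)
    (h : ∀ a b : ℕ, 1 ≤ b → a + b + 1 = n → Q ((G'.rightDerived a).obj ((G.rightDerived b).obj X)))
    (hn : Q (((G ⋙ G').rightDerived n).obj X)) :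
    Q ((G'.rightDerived n).obj (G.obj X)) := by
  set K := (TR G).obj ((singleFunctor A 0).obj X) with hK
  have h₁ : K.IsGE 0 := TR_isGE G _ 0
  obtain ⟨U, V, hU, hV, f, g, δ, hT⟩ := Cohder.KZDevissage.exists_trunc K 0
  have hU0 : U.IsGE 0 := Cohder.KZDevissage.trunc₁_isGE hT 0 0
  have hf : IsIso ((homologyFunctor B 0).map f) := Cohder.KZDevissage.isIso_trunc₁ hT 0 0 le_rfl
  obtain ⟨M, ⟨e⟩⟩ := exists_iso_singleFunctor_obj_of_isGE_of_isLE U 0
  have eM : G.obj X ≅ M := (G.rightDerivedZeroIsoSelf.app X).symm ≪≫ ((HTRsingle G 0).app X).symm ≪≫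
    (asIso ((homologyFunctor B 0).map f)).symm ≪≫
        (homologyFunctor B 0).mapIso e ≪≫ (singleFunctorCompHomologyFunctorIso B 0).app M
  have hFT := (TR G').map_distinguished _ hT
  have hmid : Q ((homologyFunctor C (n : ℤ)).obj ((TR G').obj U)) := by
    refine hQ.mid _ (HomologySequence.exact₁ _ hFT ((n : ℤ) - 1) n (by lia)) ?_ ?_
    · refine homology_TR_range G' hQ n 1 V hV ((n : ℤ) - 1) (by lia) (fun a b hb hab => ?_)
      obtain ⟨b, rfl⟩ := Int.eq_ofNat_of_zero_le (show 0 ≤ b by lia)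
      have := Cohder.KZDevissage.isIso_trunc₂ hT 0 (b : ℤ) (by lia)
      exact hQ.iso ((G'.rightDerived a).mapIso (((HTRsingle G b).app X).symm ≪≫
        asIso ((homologyFunctor B (b : ℤ)).map g))) (h a b (by lia) (by lia))
    · exact hQ.iso ((homologyFunctor C (n : ℤ)).mapIso ((TRcomp G G' hG).app _).symm ≪≫
        (HTRsingle (G ⋙ G') n).app X).symm hn
  refine hQ.iso ?_ hmid
  exact (homologyFunctor C (n : ℤ)).mapIso ((TR G').mapIso e) ≪≫ (HTRsingle G' n).app M ≪≫
    (G'.rightDerived n).mapIso eM.symm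

end general

end K555.LerayCn

open AlgebraicGeometry

namespace K555.LerayCn

open Groth.Agent.Sga4h.WayOut Groth.Agent.Sga4h.ConsWO Groth.Agent.Sga4h.PushDer Groth.Agent

variable {n : ℕ} {X Y Z : Scheme.{u}}

theorem mid_Cn (n : ℕ) (X : Scheme.{u}) [IsLocallyNoetherian X] : Mid (Cn n X) where
  iso := Cn.iso
  zero := (weakSerre_Cn n X).zero
  mid S hS h1 h3 := Etdl.H434.Emb.Cn.mid S hS h1 h3

/-- Lemma F for direct images. -/
theorem rpush_comp_deg (f : X ⟶ Y) (g : Y ⟶ Z) {Q : ObjectProperty (EtCoh.Ab Z)} (hQ : Mid Q)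
    (F : EtCoh.Ab X) (m : ℕ)
    (h : ∀ a b : ℕ, a + b = m → Q ((EtCoh.Rpush g a).obj ((EtCoh.Rpush f b).obj F))) :
    Q ((EtCoh.Rpush (f ≫ g) m).obj F) :=
  hQ.iso ((Sga4h.LerayAcyc.rightDerivedCongr (EtCoh.pushComp g f) m).app F)
    (rightDerived_comp_deg (EtCoh.push f) (EtCoh.push g) (isKInjective_push f) hQ F m h)

/-- Lemma E for direct images. -/
theorem rpush_edge_deg (f : X ⟶ Y) (g : Y ⟶ Z) {Q : ObjectProperty (EtCoh.Ab Z)} (hQ : Mid Q)
    (F : EtCoh.Ab X) (m : ℕ)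
    (h : ∀ a b : ℕ, 1 ≤ b → a + b + 1 = m → Q ((EtCoh.Rpush g a).obj ((EtCoh.Rpush f b).obj F)))
    (hm : Q ((EtCoh.Rpush (f ≫ g) m).obj F)) :
    Q ((EtCoh.Rpush g m).obj ((EtCoh.push f).obj F)) :=
  rightDerived_edge_deg (EtCoh.push f) (EtCoh.push g) (isKInjective_push f) hQ F m h
    (hQ.iso ((Sga4h.LerayAcyc.rightDerivedCongr (EtCoh.pushComp g f) m).app F).symm hm)

end K555.LerayCn
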