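import Groth.Agent.EtDl.K555.ExcFT
import Groth.Agent.EtDl.K555.LerayCn
import Groth.Agent.EtDl.K555.CnDesc
import Groth.Agent.Etdl.H434.FinInd
import Groth.Agent.Etdl.H441.PushCn
import Groth.Agent.Sga4h.StalkAcyc
import Groth.Agent.S0162
import Groth.Agent.Sga4h.FinD

/-!
# Rules for `Good q X V`

* `good_of_smooth`: descent along a jointly surjective family of smooth quasi-compact morphisms.
* `good_of_proper`: descent along a family of proper morphisms jointly surjective over `V`.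
* `good_of_le`: enlarging the open subset.
* `good_of_cert`: `Cert X V` implies `Good q X V`, from the case of leaves.
-/

set_option autoImplicit false
universe u

open CategoryTheory CategoryTheory.Limits AlgebraicGeometry

namespace K555.GoodRules

open K556.GoodDef K555.LerayCn Groth.Agent Groth.Agent.Sga4h Groth.Agent.Sga4h.ConsWO
open Groth.Agent.Etdl.H434.Emb Groth.Agent.Etdl.H434.FinInd Groth.Agent.Sga4h.PushDer
open Groth.Agent.Sga4h.FinD

theorem isTorsionInvertibleOn_of_killedBy (S : Scheme.{u}) {T : Scheme.{u}} {F : EtCoh.Ab T} {ℓ : ℕ}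
    (hℓ : IsUnit (ℓ : Γ(S, ⊤))) (hF : EtCoh.KilledBy ℓ F) : EtPBC.IsTorsionInvertibleOn S F := by
  intro U s x
  refine ⟨U, 𝟙 U, ℓ, ⟨x, rfl⟩, hℓ, ?_⟩
  rw [← map_nsmul, hF U s, map_zero]

/-- On a `ℚ`-scheme all torsion orders are invertible. -/
theorem isTorsionInvertibleOn_of_rat {S X : Scheme.{u}} (hS : Nonempty (S ⟶ Spec (CommRingCat.of (ULift.{u} ℚ))))
    {F : EtCoh.Ab X} {n k : ℕ} (hn : 0 < n) (hF : EtCoh.KilledBy (n ^ k) F) : EtPBC.IsTorsionInvertibleOn S F := by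
  obtain ⟨q⟩ := hS
  refine isTorsionInvertibleOn_of_killedBy S (ℓ := n ^ k) ?_ hF
  have h0 : IsUnit ((n ^ k : ℕ) : ULift.{u} ℚ) := by
    have h1 : ((n ^ k : ℕ) : ℚ) ≠ 0 := Nat.cast_ne_zero.2 (pow_ne_zero k hn.ne')
    have h2 := (isUnit_iff_ne_zero.2 h1).map (ULift.ringEquiv (R := ℚ)).symm
    rwa [map_natCast] at h2
  have h1 : IsUnit ((n ^ k : ℕ) : Γ(Spec (CommRingCat.of (ULift.{u} ℚ)), ⊤)) := by
    have h := h0.map (Scheme.ΓSpecIso (CommRingCat.of (ULift.{u} ℚ))).inv.hom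
    rwa [map_natCast] at h
  have h2 := h1.map q.appTop.hom
  rwa [map_natCast] at h2

/-- Smooth base change for the sheaves `Cn` on `ℚ`-schemes. -/
theorem smoothBC {X Y X' Y' : Scheme.{u}} (hY : Nonempty (Y ⟶ Spec (CommRingCat.of (ULift.{u} ℚ))))
    {f : X ⟶ Y} [QuasiCompact f] [QuasiSeparated f] {g : Y' ⟶ Y} [Smooth g] {f' : X' ⟶ Y'} {g' : X' ⟶ X}
    (h : IsPullback g' f' f g) {n : ℕ} (hn : 0 < n) {F : EtCoh.Ab X} (hF : Cn n X F) (q : ℕ) :
    Nonempty ((EtCoh.pull g).obj ((EtCoh.Rpush f q).obj F) ≅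
      (EtCoh.Rpush f' q).obj ((EtCoh.pull g').obj F)) := by
  obtain ⟨k, hk⟩ := hF.2
  have b1 : EtCoh.BCCont f := EtCoh.bcCont _
  have b2 : EtCoh.BCCont g := EtCoh.bcCont _
  have b3 : EtCoh.BCCont f' := EtCoh.bcCont _
  have b4 : EtCoh.BCCont g' := EtCoh.bcCont _
  exact (Groth.Agent.S0162.result g f f' g' h F (isTorsionInvertibleOn_of_rat hY hn hk) q).1

variable {q : ℕ}

/-- Smooth descent. -/
theorem good_of_smooth {X : Scheme.{u}} (hX : ExcQ X) {k : ℕ} (Y : Fin k → Scheme.{u}) (f : ∀ a, Y a ⟶ X)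
    [∀ a, Smooth (f a)] [∀ a, QuasiCompact (f a)] (hf : ∀ x : X, ∃ a, x ∈ Set.range (f a)) (V : X.Opens)
    (h : ∀ a, Good q (Y a) ((f a) ⁻¹ᵁ V)) : Good q X V := by
  intro n hn M _ _ hM
  have hN := hX.noeth
  have hNV : IsNoetherian (V : Scheme.{u}) := (hX.of_finiteType V.ι).noeth
  have hY : ∀ a, IsNoetherian (Y a) := fun a => (hX.of_finiteType (f a)).noeth
  have hc : Cn n (V : Scheme.{u}) (EtCoh.const _ M) := cn_const _ M hM
  refine CnDesc.cn_of_pull hn f (fun x => ?_) _ (hc.2.imp fun k hk => killedBy_rpush V.ι hk q) fun a => ?_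
  · obtain ⟨a, y, hy⟩ := hf x
    exact ⟨a, y, hy⟩
  · obtain ⟨e⟩ := smoothBC hX.rat (isPullback_morphismRestrict (f a) V) hn hc q
    exact Cn.iso (e ≪≫ (EtCoh.Rpush _ q).mapIso (EtCore.pullConst (f a ∣_ V) M)).symm (h a n hn M hM)

/-- Proper descent. -/
theorem good_of_proper (IH : FinUpTo.{u} q) {X : Scheme.{u}} (hX : ExcQ X) {k : ℕ} (Y : Fin k → Scheme.{u})
    (f : ∀ a, Y a ⟶ X) [∀ a, IsProper (f a)] (V : X.Opens) (hf : ∀ x ∈ V, ∃ a, x ∈ Set.range (f a))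
    (h : ∀ a, Good q (Y a) ((f a) ⁻¹ᵁ V)) : Good q X V := by
  intro n hn M _ _ hM
  have hN := hX.noeth
  have hV : ExcQ (V : Scheme.{u}) := hX.of_finiteType V.ι
  have hNV : IsNoetherian (V : Scheme.{u}) := hV.noeth
  have hY : ∀ a, ExcQ (Y a) := fun a => hX.of_finiteType (f a)
  have hNY : ∀ a, IsNoetherian (Y a) := fun a => (hY a).noeth
  have hYV : ∀ a, ExcQ ((f a ⁻¹ᵁ V : (Y a).Opens) : Scheme.{u}) := fun a => (hY a).of_finiteType (f a ⁻¹ᵁ V).ι
  have hNYV : ∀ a, IsNoetherian ((f a ⁻¹ᵁ V : (Y a).Opens) : Scheme.{u}) := fun a => (hYV a).noeth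
  let p : ∀ a, ((f a ⁻¹ᵁ V : (Y a).Opens) : Scheme.{u}) ⟶ (V : Scheme.{u}) := fun a => f a ∣_ V
  have hsq : ∀ a, IsPullback (f a ∣_ V) (f a ⁻¹ᵁ V).ι V.ι (f a) := fun a => isPullback_morphismRestrict (f a) V
  have hp : ∀ a, IsProper (p a) := fun a =>
    MorphismProperty.of_isPullback (P := @IsProper) (hsq a).flip inferInstance
  have hsurj : ∀ x : (V : Scheme.{u}), ∃ (a : Fin k) (y : ((f a ⁻¹ᵁ V : (Y a).Opens) : Scheme.{u})),
      (p a) y = x := by
    intro x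
    obtain ⟨a, y, hy⟩ := hf (V.ι x) x.2
    have hyV : y ∈ f a ⁻¹ᵁ V := by
      change f a y ∈ V
      rw [hy]
      exact x.2
    refine ⟨a, ⟨y, hyV⟩, ?_⟩
    apply V.ι.isOpenEmbedding.injective
    rw [← Scheme.Hom.comp_apply]
    have h1 : p a ≫ V.ι = (f a ⁻¹ᵁ V).ι ≫ f a := (hsq a).w
    rw [h1, Scheme.Hom.comp_apply]
    exact hy
  have hc : Cn n (V : Scheme.{u}) (EtCoh.const _ M) := cn_const _ M hM
  -- the embedding
  have hι := mono_lift_unit p hsurj (EtCoh.const _ M)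
  have hP : ∀ a, Cn n (V : Scheme.{u}) ((EtCoh.push (p a)).obj ((EtCoh.pull (p a)).obj (EtCoh.const _ M))) := by
    intro a
    exact Cn.iso ((rpushZeroIso (p a)).app _) (Etdl.H441.PushCn.cn_rpush_proper (p a) hn _ (cn_pull _ hc) 0)
  have hbi : Cn n (V : Scheme.{u}) (⨁ fun a => (EtCoh.push (p a)).obj ((EtCoh.pull (p a)).obj (EtCoh.const _ M))) :=
    Etdl.H434.Emb.biproduct (weakSerre_Cn n _) (fun ι _ => Cn.of_mono ι) _ hP
  refine cn_rpush_of_mono V.ι (biproduct.lift (f := fun a => (EtCoh.push (p a)).obj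
    ((EtCoh.pull (p a)).obj (EtCoh.const (V : Scheme.{u}) M)))
    (fun a => (EtCoh.pullPushAdj (p a)).unit.app (EtCoh.const (V : Scheme.{u}) M))) q
    (fun b hb => ?_) (cn_rpush_biproduct V.ι _ q fun a => ?_)
  · exact IH b (by omega) hX V.ι n hn _ ((weakSerre_Cn n _).coker _ hc hbi)
  · refine rpush_edge_deg (p a) V.ι (mid_Cn n X) _ q (fun i b hb hib => ?_) ?_
    · exact IH i (by omega) hX V.ι n hn _
        (Etdl.H441.PushCn.cn_rpush_proper (p a) hn _ (cn_pull _ hc) b)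
    · have h1 : p a ≫ V.ι = (f a ⁻¹ᵁ V).ι ≫ f a := (hsq a).w
      refine Cn.iso ((rpushCongr h1 q).symm.app _) ?_
      refine rpush_comp_deg (f a ⁻¹ᵁ V).ι (f a) (mid_Cn n X) _ q fun i b hib => ?_
      refine Etdl.H441.PushCn.cn_rpush_proper (f a) hn _ ?_ i
      by_cases hbq : b = q
      · subst hbq
        exact Cn.iso ((EtCoh.Rpush _ b).mapIso (EtCore.pullConst (p a) M).symm) (h a n hn M hM)
      · exact IH b (by omega) (hY a) (f a ⁻¹ᵁ V).ι n hn _ (cn_pull _ hc)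

/-- Enlarging the open subset. -/
theorem good_of_le (IH : FinUpTo.{u} q) {X : Scheme.{u}} (hX : ExcQ X) (V U : X.Opens) (hVU : V ≤ U)
    (hd : ∀ x ∈ U, ∃ y ∈ V, y ⤳ x) (h : Good q X V) : Good q X U := by
  intro n hn M _ _ hM
  have hN := hX.noeth
  have hU : ExcQ (U : Scheme.{u}) := hX.of_finiteType U.ι
  have hNU : IsNoetherian (U : Scheme.{u}) := hU.noeth
  have hV : ExcQ (V : Scheme.{u}) := hX.of_finiteType V.ι
  have hNV : IsNoetherian (V : Scheme.{u}) := hV.noeth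
  let i : (V : Scheme.{u}) ⟶ (U : Scheme.{u}) := X.homOfLE hVU
  have hi : i ≫ U.ι = V.ι := X.homOfLE_ι hVU
  have hi1 : LocallyOfFiniteType i := inferInstance
  have hi2 : QuasiCompact i := inferInstance
  have hc : Cn n (U : Scheme.{u}) (EtCoh.const _ M) := cn_const _ M hM
  have hc' : Cn n (V : Scheme.{u}) (EtCoh.const _ M) := cn_const _ M hM
  have hcp : Cn n (V : Scheme.{u}) ((EtCoh.pull i).obj (EtCoh.const _ M)) := cn_pull i hc
  have hmono : Mono ((EtCoh.pullPushAdj i).unit.app (EtCoh.const (U : Scheme.{u}) M)) := by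
    refine Groth.Agent.Sga4h.StalkAcyc.mono_unit_const i M fun x => ?_
    obtain ⟨y, hy, hyx⟩ := hd (U.ι x) x.2
    refine ⟨⟨y, hy⟩, ?_⟩
    refine U.ι.isOpenEmbedding.isInducing.specializes_iff.1 ?_
    rw [← Scheme.Hom.comp_apply, hi]
    exact hyx
  refine cn_rpush_of_mono U.ι ((EtCoh.pullPushAdj i).unit.app (EtCoh.const (U : Scheme.{u}) M)) q
    (fun b hb => ?_) ?_
  · refine IH b (by omega) hX U.ι n hn _ ((weakSerre_Cn n _).coker _ hc ?_)
    exact Cn.iso ((rpushZeroIso i).app _) (IH 0 (by omega) hU i n hn _ hcp)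
  · refine rpush_edge_deg i U.ι (mid_Cn n X) _ q (fun a b hb hab => ?_) ?_
    · exact IH a (by omega) hX U.ι n hn _ (IH b (by omega) hU i n hn _ hcp)
    · exact Cn.iso ((rpushCongr hi q).symm.app _ ≪≫
        (EtCoh.Rpush (i ≫ U.ι) q).mapIso (EtCore.pullConst i M).symm) (h n hn M hM)

/-- `Good` is invariant under isomorphisms. -/
theorem good_of_iso {X Y : Scheme.{u}} (hX : ExcQ X) (e : Y ⟶ X) [IsIso e] (V : X.Opens)
    (h : Good q Y (e ⁻¹ᵁ V)) : Good q X V :=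
  good_of_smooth hX (k := 1) (fun _ => Y) (fun _ => e)
    (fun x => ⟨0, by
      obtain ⟨y, hy⟩ := e.surjective x
      exact ⟨y, hy⟩⟩) V fun _ => h

open K556.CertDef

/-- `Cert X V` implies `Good q X V`. -/
theorem good_of_cert (IH : FinUpTo.{u} q)
    (leaf : ∀ (R : Type u) [CommRing R] {ι : Type} [Finite ι] (z : ι → R), SNC R z →
      ExcQ (Spec (CommRingCat.of R)) → ∀ V : (Spec (CommRingCat.of R)).Opens,
      (∀ p : Spec (CommRingCat.of R), p ∈ V ↔ ∀ i, z i ∉ p.asIdeal) → Good q (Spec (CommRingCat.of R)) V)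
    {X : Scheme.{u}} {V : X.Opens} (h : Cert X V) (hX : ExcQ X) : Good q X V := by
  induction h with
  | @leaf R _ ι _ z hz V hV =>
    have hNR : IsNoetherianRing R := hX.isExcellent_of_spec.1
    let W : (Spec (CommRingCat.of R)).Opens :=
      ⟨⋂ i, (PrimeSpectrum.basicOpen (z i) : Set (PrimeSpectrum R)),
        isOpen_iInter_of_finite fun i => (PrimeSpectrum.basicOpen (z i)).2⟩
    have hW : ∀ p : Spec (CommRingCat.of R), p ∈ W ↔ ∀ i, z i ∉ p.asIdeal := fun p => Set.mem_iInter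
    refine good_of_le IH hX W V (fun p hp => hV p ((hW p).1 hp)) (fun x _ => ?_) (leaf R z hz hX W hW)
    obtain ⟨p, hp1, hp2⟩ := Ideal.exists_minimalPrimes_le (I := ⊥) (J := x.asIdeal) bot_le
    refine ⟨⟨p, hp1.1.1⟩, (hW _).2 fun i hi => ?_, (PrimeSpectrum.le_iff_specializes _ _).1 hp2⟩
    have h1 : p ∈ minimalPrimes R := hp1
    have h2 := Ideal.disjoint_nonZeroDivisors_of_mem_minimalPrimes h1
    refine Set.disjoint_left.1 h2 hi ?_
    have h3 : ∀ a : R, z i * a = 0 → a = 0 := by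
      intro a ha
      have h4 := hz.inj ∅ i (Set.notMem_empty i) a
      rw [Set.image_empty, Ideal.span_empty] at h4
      exact (Ideal.mem_bot).1 (h4 (by rw [ha]; exact zero_mem _))
    exact mem_nonZeroDivisors_iff.2 ⟨h3, fun a ha => h3 a (by rw [mul_comm]; exact ha)⟩
  | etale V Y f h1 h2 h3 h ih => exact good_of_smooth hX Y f h3 V fun a => ih a (hX.of_finiteType (f a))
  | proper V Y f h1 h3 h ih => exact good_of_proper IH hX Y f V h3 fun a => ih a (hX.of_finiteType (f a))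

end K555.GoodRules
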