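import Groth.Agent.EtDl.K555.AbsTop
import Groth.Agent.Sga5.H855.EtIter
import Groth.Agent.Sga5.H848.TateTwist
import Groth.Agent.Sga5.HcConst
import Groth.Agent.Sga4h.LocCohLES
import Groth.Agent.S0067

/-!
# The top local cohomology sheaf of a Tate twist, through the blow-up

`b : X' ⟶ X` proper, an isomorphism over the open complement `U` of `i : Y ⟶ X`, `E = b⁻¹(Y)`, `s : U ⟶ X'`, `j : U ⟶ X`.
Assuming the purity statements for `(X, Y)` (codimension `e + 1`) and `(X', E)` (codimension one), and the bound `2e` for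
the cohomological dimension of `b`: `R^{2e+1} j_* j^* ℤ/ν(e+1) ≅ i_* ℤ/ν`.
-/

set_option autoImplicit false
universe u

open CategoryTheory CategoryTheory.Limits AlgebraicGeometry Opposite

attribute [local instance] HasDerivedCategory.standard

noncomputable section
namespace K555.GysinTop

open Groth.Agent Groth.Agent.Sga5 Groth.Agent.Sga5.H855 Groth.Agent.Sga5.H855.EtPush
  Groth.Agent.Sga4h.PushDer Groth.Agent.Etrest.RDer3 Groth.Agent.Etrest.DEtPush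
open scoped Groth.Agent.Etcore.EtInst

variable {X X' U Y E : Scheme.{u}} (b : X' ⟶ X) (i : Y ⟶ X) [IsClosedImmersion i] (j : U ⟶ X)
  [IsOpenImmersion j] (hd : IsCompl (Set.range i) (Set.range j)) (s : U ⟶ X')
  (hs : IsPullback s (𝟙 U) b j) (i' : E ⟶ X') (π : E ⟶ Y) (hE : IsPullback i' π b i)

theorem isUnit_pull {X Y : Scheme.{u}} (f : X ⟶ Y) (n : ℕ) (h : IsUnit (n : Γ(Y, ⊤))) :
    IsUnit (n : Γ(X, ⊤)) := by
  have := h.map (f.appTop).hom
  rwa [map_natCast] at this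

include hd hs hE in
theorem nonempty_Rpush_top [IsProper b] (ν : ℕ) [NeZero ν] (hν : IsUnit (ν : Γ(X, ⊤)))
    (h2 : ∀ t, Nonempty ((EtCoh.Rpush s 1).obj ((EtCoh.pull s).obj ((EtCoh.pull b).obj
      (EtDual.tate X ν (t + 1)))) ≅ (EtCoh.push i').obj (EtDual.tate E ν t)))
    (e : ℕ) (h3 : ∀ t, EtIter.Hyp b j s (EtDual.tate X ν (t + 1)) (2 * e)) :
    Nonempty ((EtCoh.Rpush j (2 * e + 1)).obj ((EtCoh.pull j).obj (EtDual.tate X ν (e + 1))) ≅
      (EtCoh.push i).obj (EtCoh.const Y (ZMod ν))) := by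
  have ee := EtIter.eL b j s (by rw [hs.w, Category.id_comp])
  have hν' : IsUnit (ν : Γ(X', ⊤)) := isUnit_pull b ν hν
  have hνY : IsUnit (ν : Γ(Y, ⊤)) := isUnit_pull i ν hν
  have hT : ∀ t, Nonempty ((EtCoh.pull i').obj ((EtCoh.pull b).obj (EtDual.tate X ν t)) ≅
      EtDual.tate E ν t) := by
    intro t
    obtain ⟨-, ⟨a⟩⟩ := H848.TateTwist.nonempty_pull_tate b hν t
    obtain ⟨-, ⟨a'⟩⟩ := H848.TateTwist.nonempty_pull_tate i' hν' t
    exact ⟨(EtCoh.pull i').mapIso a ≪≫ a'⟩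
  obtain ⟨top⟩ := EtIter.top_iso b i j hd s hs i' π hE (fun t => EtDual.tate X ν t)
    (fun t => EtDual.tate E ν t) ν hνY
    (fun t => HcConst.isTorsion_of_killedBy ν (NeZero.ne ν) _ (HcConst.killedBy_tate X ν t)) ⟨Iso.refl _⟩
    (H848.TateTwist.nonempty_pull_tate i hν 1).2 hT h2 e h3
  obtain ⟨e1⟩ := AbsTop.nonempty_iso_top ee (h3 e)
  obtain ⟨eP⟩ := h2 e
  exact ⟨e1 ≪≫ (EtCoh.Rpush b (2 * e)).mapIso eP ≪≫ top⟩

include hd hs hE in
/-- The global isomorphism for the local cohomology sheaf. -/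
theorem nonempty_locCoh_top [IsProper b] (ν : ℕ) [NeZero ν] (hν : IsUnit (ν : Γ(X, ⊤)))
    (h2 : ∀ t, Nonempty ((EtCoh.Rpush s 1).obj ((EtCoh.pull s).obj ((EtCoh.pull b).obj
      (EtDual.tate X ν (t + 1)))) ≅ (EtCoh.push i').obj (EtDual.tate E ν t)))
    (e : ℕ) (h3 : ∀ t, EtIter.Hyp b j s (EtDual.tate X ν (t + 1)) (2 * e)) :
    Nonempty ((EtDual.locCoh j (2 * (e + 1))).obj (EtDual.tate X ν (e + 1)) ≅
      (EtCoh.push i).obj (EtCoh.const Y (ZMod ν))) := by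
  obtain ⟨e1⟩ := nonempty_Rpush_top b i j hd s hs i' π hE ν hν h2 e h3
  exact ⟨(Sga4h.LocCohLES.locCohSuccIso j (EtDual.tate X ν (e + 1)) (2 * e)).symm ≪≫ e1⟩

/-- `i^* i_* G ≅ G`. -/
theorem nonempty_pull_push (G : EtCoh.Ab Y) : Nonempty ((EtCoh.pull i).obj ((EtCoh.push i).obj G) ≅ G) := by
  obtain ⟨h1, h2⟩ := Groth.Agent.S0067.result i
  have h3 : IsIso (EtCoh.pullPushAdj i).counit := inferInstance
  exact ⟨asIso ((EtCoh.pullPushAdj i).counit.app G)⟩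

include hd hs hE in
/-- The restriction of the top local cohomology sheaf. -/
theorem nonempty_pull_locCoh_top [IsProper b] (ν : ℕ) [NeZero ν] (hν : IsUnit (ν : Γ(X, ⊤)))
    (h2 : ∀ t, Nonempty ((EtCoh.Rpush s 1).obj ((EtCoh.pull s).obj ((EtCoh.pull b).obj
      (EtDual.tate X ν (t + 1)))) ≅ (EtCoh.push i').obj (EtDual.tate E ν t)))
    (e : ℕ) (h3 : ∀ t, EtIter.Hyp b j s (EtDual.tate X ν (t + 1)) (2 * e)) :
    Nonempty ((EtCoh.pull i).obj ((EtDual.locCoh j (2 * (e + 1))).obj (EtDual.tate X ν (e + 1))) ≅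
      EtCoh.const Y (ZMod ν)) := by
  obtain ⟨e1⟩ := nonempty_locCoh_top b i j hd s hs i' π hE ν hν h2 e h3
  obtain ⟨e2⟩ := nonempty_pull_push i (EtCoh.const Y (ZMod ν))
  exact ⟨(EtCoh.pull i).mapIso e1 ≪≫ e2⟩

end K555.GysinTop
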