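import Mathlib.AlgebraicGeometry.PullbackCarrier
import Mathlib.AlgebraicGeometry.OpenImmersion

/-!
# Open immersions with prescribed range form cartesian squares
-/

set_option autoImplicit false
universe u
open CategoryTheory CategoryTheory.Limits AlgebraicGeometry

namespace K555.OpenSq

/-- An open subscheme and the open subscheme of the preimage form a cartesian square. -/
theorem exists_isPullback_of_range {X X' U W : Scheme.{u}} (j : U ⟶ X) [IsOpenImmersion j]
    (j' : W ⟶ X') [IsOpenImmersion j'] (c : X' ⟶ X)
    (h : ∀ z : X', z ∈ Set.range j' ↔ c z ∈ Set.range j) : ∃ u : W ⟶ U, IsPullback u j' j c := by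
  have hr : Set.range j' = Set.range (pullback.snd j c) := by
    ext z
    rw [h z]
    constructor
    · rintro ⟨u, hu⟩
      obtain ⟨w, -, hw⟩ := Scheme.Pullback.exists_preimage_pullback (f := j) (g := c) u z hu
      exact ⟨w, hw⟩
    · rintro ⟨w, rfl⟩
      refine ⟨pullback.fst j c w, ?_⟩
      have := congrArg (fun t => t w) (pullback.condition (f := j) (g := c))
      exact this
  let e := IsOpenImmersion.isoOfRangeEq j' (pullback.snd j c) hr
  have he : e.hom ≫ pullback.snd j c = j' := IsOpenImmersion.isoOfRangeEq_hom_fac _ _ _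
  refine ⟨e.hom ≫ pullback.fst j c, IsPullback.of_iso_pullback ⟨?_⟩ e rfl he⟩
  rw [Category.assoc, pullback.condition, ← Category.assoc, he]

/-- The range of the second projection of the base change of an open immersion. -/
theorem mem_range_snd {X X' U : Scheme.{u}} (j : U ⟶ X) (c : X' ⟶ X) (z : X') :
    z ∈ Set.range (pullback.snd j c) ↔ c z ∈ Set.range j := by
  constructor
  · rintro ⟨w, rfl⟩
    refine ⟨pullback.fst j c w, ?_⟩
    exact congrArg (fun t => t w) (pullback.condition (f := j) (g := c))
  · rintro ⟨u, hu⟩
    obtain ⟨w, -, hw⟩ := Scheme.Pullback.exists_preimage_pullback (f := j) (g := c) u z hu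
    exact ⟨w, hw⟩

end K555.OpenSq
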