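import Mathlib.AlgebraicGeometry.Morphisms.Smooth
import Mathlib.RingTheory.Smooth.Basic
import Mathlib.RingTheory.RingHom.Smooth
import Mathlib.Algebra.MvPolynomial.Equiv

/-!
# Projections of affine spaces are smooth

`smooth_castAdd`: the morphism `Spec k[X_1, …, X_{c+e}] ⟶ Spec k[X_1, …, X_c]` is smooth.
-/

set_option autoImplicit false
universe u

open CategoryTheory AlgebraicGeometry MvPolynomial

namespace K555.PolySm

variable (k : Type u) [CommRing k] (c e : ℕ)

/-- `k[X_1, …, X_{c+e}]` as a polynomial ring over `k[X_1, …, X_c]`. -/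
noncomputable def equiv : MvPolynomial (Fin (c + e)) k ≃ₐ[k] MvPolynomial (Fin e) (MvPolynomial (Fin c) k) :=
  (renameEquiv k (finSumFinEquiv.symm.trans (Equiv.sumComm (Fin c) (Fin e)))).trans
    (sumAlgEquiv k (Fin e) (Fin c))

theorem equiv_castAdd (i : Fin c) : equiv k c e (X (Fin.castAdd e i)) = C (X i) := by
  simp [equiv]

theorem equiv_rename (p : MvPolynomial (Fin c) k) :
    equiv k c e (rename (Fin.castAdd e) p) = C p := by
  have h : ((equiv k c e).toAlgHom.comp (rename (Fin.castAdd e))).toRingHom =
      (C : MvPolynomial (Fin c) k →+* MvPolynomial (Fin e) (MvPolynomial (Fin c) k)) := by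
    apply MvPolynomial.ringHom_ext
    · intro r
      change equiv k c e (rename (Fin.castAdd e) (C r)) = _
      rw [rename_C]
      simp [equiv]
    · intro i
      change equiv k c e (rename (Fin.castAdd e) (X i)) = _
      rw [rename_X, equiv_castAdd]
  exact RingHom.congr_fun h p

theorem smooth_rename : (rename (R := k) (Fin.castAdd e : Fin c → Fin (c + e))).toRingHom.Smooth := by
  algebraize [(rename (R := k) (Fin.castAdd e : Fin c → Fin (c + e))).toRingHom]
  let ε : MvPolynomial (Fin e) (MvPolynomial (Fin c) k) ≃ₐ[MvPolynomial (Fin c) k]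
      MvPolynomial (Fin (c + e)) k :=
    AlgEquiv.symm (AlgEquiv.ofRingEquiv (f := (equiv k c e).toRingEquiv) fun p => equiv_rename k c e p)
  have h1 : Algebra.Smooth (MvPolynomial (Fin c) k) (MvPolynomial (Fin e) (MvPolynomial (Fin c) k)) :=
    ⟨inferInstance, inferInstance⟩
  have h2 : Algebra.Smooth (MvPolynomial (Fin c) k) (MvPolynomial (Fin (c + e)) k) :=
    Algebra.Smooth.of_equiv ε
  exact h2

theorem smooth_castAdd :
    Smooth (Spec.map (CommRingCat.ofHom (rename (R := k) (Fin.castAdd e : Fin c → Fin (c + e))).toRingHom)) := by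
  rw [HasRingHomProperty.Spec_iff (P := @Smooth)]
  exact smooth_rename k c e

end K555.PolySm
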