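import Groth.Agent.EtDl.K555.Params
import Groth.Agent.EtDl.K555.PolySm
import Groth.Agent.EtpbcB.BCMorField
import Groth.Agent.Sga2lef.H101.SmLimBC
import Groth.Agent.Sga2lef.H101.IndSmoothPoly

/-!
# Base change along the morphism to affine space given by parameters

`R` regular local containing a field `k` of characteristic zero.
* `ubc_params`: `Spec R ⟶ 𝔸^d_k` given by a regular system of parameters satisfies universal base change;
* `ubc_partial`: the same for `Spec R ⟶ 𝔸^c_k` given by a part of a regular system of parameters.
-/

set_option autoImplicit false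
universe u
open CategoryTheory AlgebraicGeometry MvPolynomial IsLocalRing

namespace K555.ParBC

open Groth.Agent.EtpbcB.BCU Groth.Agent.Sga2lef.H101

variable (k : Type u) [Field k] [CharZero k] (R : Type u) [CommRing R] [IsRegularLocalRing R] [Algebra k R]

theorem ubc_params {d : ℕ} (hd : ringKrullDim R = d) (x : Fin d → R)
    (hx : Ideal.span (Set.range x) = maximalIdeal R) :
    UBC (Spec (CommRingCat.of k)) (Spec.map (CommRingCat.ofHom (aeval (R := k) x).toRingHom)) := by
  let _ : Algebra (MvPolynomial (Fin d) k) R := (aeval (R := k) x).toAlgebra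
  have : IsScalarTower k (MvPolynomial (Fin d) k) R :=
    IsScalarTower.of_algebraMap_eq' (aeval (R := k) x).comp_algebraMap.symm
  have hx' : Ideal.span (Set.range fun i : Fin d => algebraMap (MvPolynomial (Fin d) k) R (X i)) =
      maximalIdeal R := by
    rw [← hx]
    congr 2
    funext i
    exact aeval_X x i
  exact SmLimBC.ubc_of_indSmooth (IndSmoothPoly.indSmooth_params hd hx')
    (Spec.map (CommRingCat.ofHom (algebraMap k (MvPolynomial (Fin d) k))))

theorem ubc_partial {c e : ℕ} (hd : ringKrullDim R = (c + e : ℕ)) (x : Fin (c + e) → R)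
    (hx : Ideal.span (Set.range x) = maximalIdeal R) :
    UBC (Spec (CommRingCat.of k))
      (Spec.map (CommRingCat.ofHom (aeval (R := k) fun i : Fin c => x (Fin.castAdd e i)).toRingHom)) := by
  have h1 := ubc_params k R hd x hx
  have h2 : Smooth (Spec.map (CommRingCat.ofHom
      (rename (R := k) (Fin.castAdd e : Fin c → Fin (c + e))).toRingHom)) := PolySm.smooth_castAdd k c e
  have h3 := UBC.of_smooth (S := Spec (CommRingCat.of k))
    (Spec.map (CommRingCat.ofHom (algebraMap k (MvPolynomial (Fin c) k))))
    (Spec.map (CommRingCat.ofHom (rename (R := k) (Fin.castAdd e : Fin c → Fin (c + e))).toRingHom))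
  have h4 := h3.comp h1
  rw [← Spec.map_comp, ← CommRingCat.ofHom_comp] at h4
  have h5 : (aeval (R := k) x).toRingHom.comp
      (rename (R := k) (Fin.castAdd e : Fin c → Fin (c + e))).toRingHom =
      (aeval (R := k) fun i : Fin c => x (Fin.castAdd e i)).toRingHom := by
    have : ((aeval (R := k) x).comp (rename (R := k) (Fin.castAdd e : Fin c → Fin (c + e)))) =
        aeval (R := k) fun i : Fin c => x (Fin.castAdd e i) := by
      apply MvPolynomial.algHom_ext
      intro i
      simp
    exact congrArg (fun f : MvPolynomial (Fin c) k →ₐ[k] R => f.toRingHom) this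
  rwa [h5] at h4

end K555.ParBC
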