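import Groth.Agent.S0561
import Groth.Agent.S2941
import Mathlib.RingTheory.RegularLocalRing.Defs
import Mathlib.RingTheory.KrullDimension.Regular
import Mathlib.RingTheory.Ideal.KrullsHeightTheorem

/-!
# Parameters adapted to a regular quotient

* `exists_params`: `R` regular local, `R ⧸ I` regular local of codimension `c`: there is a regular system of
  parameters of `R` the first `c` of which generate `I`.
* `complete_params`: elements `y_1, …, y_c` with `R ⧸ (y)` regular local of dimension `e` are completed by `e`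
  elements to generators of the maximal ideal.
* `exists_params_of_notMem`: an element of `𝔪 ∖ 𝔪²` is the first member of a regular system of parameters.
-/

set_option autoImplicit false
universe u

open IsLocalRing

namespace K555.Params

theorem encard_range_le {α : Type*} {n : ℕ} (x : Fin n → α) : (Set.range x).encard ≤ n := by
  rw [← Set.image_univ]
  refine (Set.encard_image_le _ _).trans ?_
  simp

theorem ncard_range_le {α : Type*} {n : ℕ} (x : Fin n → α) : (Set.range x).ncard ≤ n := by
  have h := Set.ncard_le_encard (Set.range x)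
  exact_mod_cast h.trans (encard_range_le x)

theorem isLocalHom_mk {A : Type*} [CommRing A] [IsLocalRing A] (J : Ideal A) [Nontrivial (A ⧸ J)] :
    IsLocalHom (Ideal.Quotient.mk J) := IsLocalHom.of_surjective _ Ideal.Quotient.mk_surjective

theorem comap_mk {A : Type*} [CommRing A] [IsLocalRing A] (J : Ideal A) [IsLocalRing (A ⧸ J)] :
    (maximalIdeal (A ⧸ J)).comap (Ideal.Quotient.mk J) = maximalIdeal A :=
  ((local_hom_TFAE (Ideal.Quotient.mk J)).out 0 4).1 (isLocalHom_mk J)

theorem map_mk {A : Type*} [CommRing A] [IsLocalRing A] (J : Ideal A) [IsLocalRing (A ⧸ J)] :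
    (maximalIdeal A).map (Ideal.Quotient.mk J) = maximalIdeal (A ⧸ J) := by
  rw [← comap_mk J, Ideal.map_comap_of_surjective _ Ideal.Quotient.mk_surjective]

variable (R : Type u) [CommRing R] [IsRegularLocalRing R]

/-- Parameters adapted to a regular quotient of codimension `c`. -/
theorem exists_params (I : Ideal R) [IsRegularLocalRing (R ⧸ I)] (c : ℕ)
    (hdim : ringKrullDim (R ⧸ I) + c = ringKrullDim R) :
    ∃ (e : ℕ) (x : Fin (c + e) → R), ringKrullDim R = (c + e : ℕ) ∧
      Ideal.span (Set.range x) = maximalIdeal R ∧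
      I = Ideal.span (Set.range fun i : Fin c => x (Fin.castAdd e i)) := by
  obtain ⟨d, hd⟩ : ∃ d : ℕ, ringKrullDim R = d :=
    ⟨_, (IsRegularLocalRing.spanFinrank_maximalIdeal (R := R)).symm⟩
  obtain ⟨x, c', hc', hx, hI⟩ := Groth.Agent.S0561.result R d hd I
  obtain ⟨e', he'⟩ : ∃ e' : ℕ, ringKrullDim (R ⧸ I) = e' :=
    ⟨_, (IsRegularLocalRing.spanFinrank_maximalIdeal (R := R ⧸ I)).symm⟩
  have hce : e' + c = d := by
    rw [he', hd] at hdim
    exact_mod_cast hdim
  have hxm : ∀ i, x i ∈ maximalIdeal R := fun i => hx ▸ Ideal.subset_span ⟨i, rfl⟩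
  -- `d ≤ e' + c'`
  have h1 : d ≤ e' + c' := by
    have h2 := ringKrullDim_le_ringKrullDim_quotient_add_encard
      (Set.range fun i : Fin c' => x (Fin.castLE hc' i)) (by
        rintro _ ⟨i, rfl⟩
        rw [IsLocalRing.ringJacobson_eq_maximalIdeal]
        exact hxm _)
    rw [← hI, hd, he'] at h2
    have h4 : ((d : ℕ) : WithBot ℕ∞) ≤ (e' : WithBot ℕ∞) + (c' : ℕ) := by
      refine h2.trans ?_
      gcongr
      exact_mod_cast encard_range_le _
    exact_mod_cast h4
  -- `e' ≤ d - c'`
  have h5 : e' + c' ≤ d := by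
    have h6 : (maximalIdeal (R ⧸ I)).spanFinrank = e' := by
      have := IsRegularLocalRing.spanFinrank_maximalIdeal (R := R ⧸ I)
      rw [he'] at this
      exact_mod_cast this
    let y : Fin (d - c') → R ⧸ I := fun i =>
      Ideal.Quotient.mk I (x (Fin.cast (by omega) (Fin.natAdd c' i)))
    have h7 : Ideal.span (Set.range y) = maximalIdeal (R ⧸ I) := by
      rw [← map_mk I, ← hx, Ideal.map_span]
      apply le_antisymm
      · rw [Ideal.span_le]
        rintro _ ⟨i, rfl⟩
        exact Ideal.subset_span ⟨_, ⟨_, rfl⟩, rfl⟩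
      · rw [Ideal.span_le]
        rintro _ ⟨_, ⟨i, rfl⟩, rfl⟩
        by_cases hi : (i : ℕ) < c'
        · have : Ideal.Quotient.mk I (x i) = 0 := by
            rw [Ideal.Quotient.eq_zero_iff_mem, hI]
            exact Ideal.subset_span ⟨⟨i, hi⟩, rfl⟩
          rw [this]
          exact Ideal.zero_mem _
        · refine Ideal.subset_span ⟨⟨i - c', by omega⟩, ?_⟩
          simp only [y]
          congr 2
          apply Fin.ext
          simp
          omega
    have h9 : (maximalIdeal (R ⧸ I)).spanFinrank ≤ d - c' := by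
      rw [← h7]
      exact le_trans (Submodule.spanFinrank_span_le_ncard_of_finite (Set.finite_range _))
        (ncard_range_le _)
    omega
  have hcc : c' = c := by omega
  subst hcc
  obtain ⟨e, rfl⟩ := Nat.exists_eq_add_of_le hc'
  exact ⟨e, x, hd, hx, hI⟩

/-- Completing `y` to generators of the maximal ideal. -/
theorem complete_params (c : ℕ) (y : Fin c → R)
    (hreg : IsRegularLocalRing (R ⧸ Ideal.span (Set.range y))) (e : ℕ)
    (he : ringKrullDim (R ⧸ Ideal.span (Set.range y)) = e) :
    ∃ t : Fin (c + e) → R, (∀ i, t (Fin.castAdd e i) = y i) ∧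
      Ideal.span (Set.range t) = maximalIdeal R := by
  set J := Ideal.span (Set.range y) with hJ
  have h1 : (maximalIdeal (R ⧸ J)).spanFinrank = e := by
    have := IsRegularLocalRing.spanFinrank_maximalIdeal (R := R ⧸ J)
    rw [he] at this
    exact_mod_cast this
  have hfg : (maximalIdeal (R ⧸ J)).FG := IsNoetherian.noetherian _
  have hcard : (maximalIdeal (R ⧸ J)).generators.ncard = e := by
    rw [Submodule.FG.generators_ncard hfg, h1]
  have hfin := Submodule.FG.finite_generators hfg
  let ε : Fin e ≃ (maximalIdeal (R ⧸ J)).generators := by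
    have := hfin.fintype
    refine (Fintype.equivFinOfCardEq ?_).symm
    rw [← hcard, Set.ncard_eq_toFinset_card', Set.toFinset_card]
  choose z hz using fun i : Fin e => Ideal.Quotient.mk_surjective (ε i : R ⧸ J)
  refine ⟨Fin.append y z, fun i => Fin.append_left y z i, ?_⟩
  have hmap : (Ideal.span (Set.range z)).map (Ideal.Quotient.mk J) = maximalIdeal (R ⧸ J) := by
    rw [Ideal.map_span, ← Set.range_comp]
    have : Set.range (Ideal.Quotient.mk J ∘ z) = (maximalIdeal (R ⧸ J)).generators := by
      ext w
      constructor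
      · rintro ⟨i, rfl⟩
        rw [Function.comp_apply, hz]
        exact (ε i).2
      · intro hw
        obtain ⟨i, hi⟩ := ε.surjective ⟨w, hw⟩
        exact ⟨i, by rw [Function.comp_apply, hz, hi]⟩
    rw [this]
    exact Submodule.span_generators _
  have hr : Set.range (Fin.append y z) = Set.range z ∪ Set.range y := by
    ext w
    constructor
    · rintro ⟨i, rfl⟩
      refine Fin.addCases (fun i => ?_) (fun i => ?_) i
      · exact Or.inr ⟨i, (Fin.append_left y z i).symm⟩
      · exact Or.inl ⟨i, (Fin.append_right y z i).symm⟩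
    · rintro (⟨i, rfl⟩ | ⟨i, rfl⟩)
      · exact ⟨_, Fin.append_right y z i⟩
      · exact ⟨_, Fin.append_left y z i⟩
  rw [hr, Ideal.span_union, ← comap_mk J, ← hmap,
    Ideal.comap_map_of_surjective _ Ideal.Quotient.mk_surjective, ← RingHom.ker_eq_comap_bot,
    Ideal.mk_ker]

/-- An element of `𝔪 ∖ 𝔪²` is the first member of a regular system of parameters. -/
theorem exists_params_of_notMem (x : R) (hx : x ∈ maximalIdeal R) (hx2 : x ∉ maximalIdeal R ^ 2) :
    ∃ (e : ℕ) (y : Fin (1 + e) → R), ringKrullDim R = (1 + e : ℕ) ∧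
      Ideal.span (Set.range y) = maximalIdeal R ∧ y (Fin.castAdd e 0) = x := by
  obtain ⟨d, hd⟩ : ∃ d : ℕ, ringKrullDim R = d :=
    ⟨_, (IsRegularLocalRing.spanFinrank_maximalIdeal (R := R)).symm⟩
  obtain ⟨h1, e, rfl, he⟩ := Groth.Agent.S2941.quotient_regular R d hd x hx (by rwa [← pow_two])
  have hr : Set.range (fun _ : Fin 1 => x) = {x} := Set.range_const
  obtain ⟨t, ht1, ht2⟩ := complete_params R 1 (fun _ => x) (by rw [hr]; exact h1) e (by rw [hr]; exact he)
  exact ⟨e, t, by rw [hd, add_comm], ht2, ht1 0⟩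

end K555.Params
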