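import Groth.Agent.EtDl.K555.ParBC
import Groth.Agent.EtDl.K555.OpenSq
import Groth.Agent.Sga2lef.H101.AffOrigin
import Groth.Agent.Sga2lef.H101.LocCohBC

/-!
# Purity for regular closed subschemes of the spectrum of a regular local ring of equal characteristic zero
-/

set_option autoImplicit false
universe u
open CategoryTheory CategoryTheory.Limits AlgebraicGeometry Opposite MvPolynomial IsLocalRing

namespace K555.PureLoc

open Groth.Agent.EtpbcB.BCU Groth.Agent.Sga2lef.H101

variable (k : Type u) [Field k] [CharZero k] (R : Type u) [CommRing R] [IsRegularLocalRing R] [Algebra k R]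

theorem isTorsionInvertibleOn_const {n : ℕ} (hn : n ≠ 0) (Y : Scheme.{u}) :
    EtPBC.IsTorsionInvertibleOn (Spec (CommRingCat.of k)) (EtCoh.const Y (ZMod n)) := by
  have : NeZero n := ⟨hn⟩
  have hnk : (n : k) ≠ 0 := by exact_mod_cast hn
  intro V s x
  refine ⟨V, 𝟙 V, n, ⟨x, rfl⟩, ?_, AffOrigin.killedBy_const Y n V _⟩
  have h0 : IsUnit (n : k) := Ne.isUnit hnk
  have h3 := h0.map (Scheme.ΓSpecIso (CommRingCat.of k)).inv.hom
  rw [map_natCast] at h3
  exact h3

/-- The preimage of the complement of the origin. -/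
theorem mem_U {c : ℕ} (x : Fin c → R) (z : Spec (CommRingCat.of R)) :
    Spec.map (CommRingCat.ofHom (aeval (R := k) x).toRingHom) z ∈ Set.range (AffOrigin.U k c).ι ↔
      ¬ Ideal.span (Set.range x) ≤ z.asIdeal := by
  rw [Scheme.Opens.range_ι]
  change ¬ ((AffOrigin.ideal k c : Set (MvPolynomial (Fin c) k)) ⊆
    ((z : PrimeSpectrum R).comap (aeval (R := k) x).toRingHom).asIdeal) ↔ _
  rw [not_iff_not]
  change Ideal.span _ ≤ _ ↔ _
  rw [Ideal.span_le, Ideal.span_le]
  constructor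
  · rintro h _ ⟨i, rfl⟩
    have h1 : (aeval (R := k) x) (X i) ∈ z.asIdeal := h ⟨i, rfl⟩
    rwa [aeval_X] at h1
  · rintro h _ ⟨i, rfl⟩
    change (aeval (R := k) x) (X i) ∈ z.asIdeal
    rw [aeval_X]
    exact h ⟨i, rfl⟩

include k in
/-- Purity (vanishing part) for a regular closed subscheme of the spectrum of a regular local ring. -/
theorem isZero_locCoh (I : Ideal R) [IsRegularLocalRing (R ⧸ I)] (c : ℕ) (hc : 0 < c)
    (hdim : ringKrullDim (R ⧸ I) + c = ringKrullDim R) {U : Scheme.{u}}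
    (j : U ⟶ Spec (CommRingCat.of R)) [IsOpenImmersion j]
    (hj : ∀ z : Spec (CommRingCat.of R), z ∈ Set.range j ↔ ¬ I ≤ z.asIdeal) {n : ℕ} (hn : n ≠ 0) {q : ℕ}
    (hq : q ≠ 2 * c) :
    IsZero ((EtDual.locCoh j q).obj (EtCoh.const (Spec (CommRingCat.of R)) (ZMod n))) := by
  obtain ⟨e, x, hd, hx, hI⟩ := Params.exists_params R I c hdim
  have hnk : (n : k) ≠ 0 := by exact_mod_cast hn
  obtain ⟨g', sq⟩ := OpenSq.exists_isPullback_of_range (AffOrigin.U k c).ι j
    (Spec.map (CommRingCat.ofHom (aeval (R := k) fun i : Fin c => x (Fin.castAdd e i)).toRingHom))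
    fun z => by rw [hj z, mem_U, ← hI]
  have h1 := LocCohBC.isZero_locCoh_pull (ParBC.ubc_partial k R hd x hx).bcMor sq
    (EtCoh.const (AffOrigin.A k c) (ZMod n)) (isTorsionInvertibleOn_const k hn _) q
    ((AffOrigin.purity k hc hnk).1 q hq)
  exact h1.of_iso ((EtDual.locCoh j q).mapIso (Groth.Agent.Sga4B.Pure.pullConst _ (ZMod n)).symm)

end K555.PureLoc
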