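import Groth.Agent.EtDl.K555.PureLoc
import Groth.Agent.EtDl.K555.ClosedStalk
import Groth.Agent.EtDl.K555.RegMor

/-!
# Purity for regular pairs of locally Noetherian schemes over `ℚ`: the vanishing part

No excellence is needed: the statement is local for `Spec O_{X,x} ⟶ X`, and a regular local ring containing `ℚ`
is ind-smooth over a polynomial ring in a regular system of parameters.
-/

set_option autoImplicit false
universe u
open CategoryTheory CategoryTheory.Limits AlgebraicGeometry Opposite

namespace K555.PureReg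

open Groth.Agent.EtpbcB.BCU Groth.Agent.Sga2lef.H101

/-- The local rings of a scheme over `ℚ` are `ℚ`-algebras. -/
noncomputable abbrev stalkAlgebra {X : Scheme.{u}} {k : Type u} [CommRing k]
    (qX : X ⟶ Spec (CommRingCat.of k)) (x : X) : Algebra k (X.presheaf.stalk x) :=
  (Spec.preimage (X.fromSpecStalk x ≫ qX)).hom.toAlgebra

/-- Purity: vanishing of the local cohomology sheaves of `ℤ/n` in degrees `≠ 2c`. -/
theorem isZero_locCoh {X Y U : Scheme.{u}} [IsLocallyNoetherian X]
    {k : Type u} [Field k] [CharZero k] (qX : X ⟶ Spec (CommRingCat.of k))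
    (i : Y ⟶ X) [IsClosedImmersion i] (hreg : ∀ y : Y, IsRegularLocalRing (X.presheaf.stalk (i y)))
    (hYreg : ∀ y : Y, IsRegularLocalRing (Y.presheaf.stalk y))
    (j : U ⟶ X) [IsOpenImmersion j] (hij : Set.range j.base = (Set.range i.base)ᶜ)
    (c : ℕ) (hc : 0 < c)
    (hcodim : ∀ y : Y, ringKrullDim (X.presheaf.stalk (i.base y)) = ringKrullDim (Y.presheaf.stalk y) + c)
    (n : ℕ) (hn : n ≠ 0) (q : ℕ) (hq : q ≠ 2 * c) :
    IsZero ((EtDual.locCoh j q).obj (EtCoh.const X (ZMod n))) := by
  let X' : Option Y → Scheme.{u} := fun a => a.elim U fun y => Spec (X.presheaf.stalk (i y))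
  let v : ∀ a, X' a ⟶ X := fun a => match a with
    | none => j
    | some y => X.fromSpecStalk (i y)
  refine Groth.Agent.Etcore.PullJoint.isZero_of_pull v (fun x => ?_) _ fun a => ?_
  · by_cases hx : x ∈ Set.range j.base
    · obtain ⟨w, hw⟩ := hx
      exact ⟨none, w, hw⟩
    · rw [hij, Set.notMem_compl_iff] at hx
      obtain ⟨y, rfl⟩ := hx
      exact ⟨some y, IsLocalRing.closedPoint _, Scheme.fromSpecStalk_closedPoint⟩
  · match a with
    | none => exact Groth.Agent.Sga4B.ClosedSupp.isZero_pull_locCoh j q _
    | some y =>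
      have hR := hreg y
      have hY := hYreg y
      let _ := stalkAlgebra qX (i y)
      let g : Spec (X.presheaf.stalk (i y)) ⟶ X := X.fromSpecStalk (i y)
      have hsurj : Function.Surjective (i.stalkMap y).hom := i.stalkMap_surjective y
      let ε := RingHom.quotientKerEquivOfSurjective hsurj
      have hregI : IsRegularLocalRing (X.presheaf.stalk (i y) ⧸ RingHom.ker (i.stalkMap y).hom) :=
        IsRegularLocalRing.of_ringEquiv ε.symm
      have hdim : ringKrullDim (X.presheaf.stalk (i y) ⧸ RingHom.ker (i.stalkMap y).hom) + c =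
          ringKrullDim (X.presheaf.stalk (i y)) := by
        rw [ringKrullDim_eq_of_ringEquiv ε]
        exact (hcodim y).symm
      obtain ⟨e⟩ := LocCohBC.nonempty_pull_locCoh_iso (RegMor.ubc_fromSpecStalk X (i y) qX).bcMor
        (IsPullback.of_hasPullback j g) (EtCoh.const X (ZMod n))
        (PureLoc.isTorsionInvertibleOn_const k hn X) q
      refine IsZero.of_iso ?_ e
      refine IsZero.of_iso ?_ ((EtDual.locCoh (pullback.snd j g) q).mapIso
        (Groth.Agent.Sga4B.Pure.pullConst g (ZMod n)))
      refine PureLoc.isZero_locCoh k (X.presheaf.stalk (i y)) (RingHom.ker (i.stalkMap y).hom) c hc hdim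
        (pullback.snd j g) (fun z => ?_) hn hq
      rw [OpenSq.mem_range_snd, ← ClosedStalk.mem_range_iff]
      change g z ∈ Set.range j.base ↔ _
      rw [hij]
      rfl

end K555.PureReg
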