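import Groth.Prelude.Def_EtDual
import Mathlib.CategoryTheory.Limits.Shapes.ZeroObjects
import Mathlib.Algebra.Category.Grp.Zero

/-!
# The tensor product with a zero sheaf is zero
-/

set_option autoImplicit false
universe u
open CategoryTheory CategoryTheory.Limits AlgebraicGeometry Opposite TensorProduct

namespace K555.TensorZero

theorem isZero_tensorAb {X : Scheme.{u}} (F G : EtCoh.Ab X) (hG : IsZero G) :
    IsZero (EtDual.tensorAb F G) := by
  have h : IsZero (EtDual.tensorPre F G) := by
    rw [Functor.isZero_iff]
    intro U
    have h1 : IsZero (G.obj.obj U) :=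
      (sheafToPresheaf X.smallEtaleTopology AddCommGrpCat.{u + 1} ⋙ (evaluation _ _).obj U).map_isZero hG
    have h2 : Subsingleton (G.obj.obj U) := AddCommGrpCat.subsingleton_of_isZero h1
    have h3 : Subsingleton (F.obj.obj U ⊗[ℤ] G.obj.obj U) := by
      refine ⟨fun a b => ?_⟩
      have h4 : ∀ x : F.obj.obj U ⊗[ℤ] G.obj.obj U, x = 0 := by
        intro x
        induction x using TensorProduct.induction_on with
        | zero => rfl
        | tmul a b => rw [Subsingleton.elim b 0, TensorProduct.tmul_zero]
        | add a b ha hb => rw [ha, hb, add_zero]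
      rw [h4 a, h4 b]
    exact @AddCommGrpCat.isZero_of_subsingleton ((EtDual.tensorPre F G).obj U) h3
  exact (presheafToSheaf X.smallEtaleTopology AddCommGrpCat.{u + 1}).map_isZero h

end K555.TensorZero
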