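import Groth.Agent.EtDl.K555.PureReg
import Groth.Agent.EtDl.K555.TensorZero
import Groth.Agent.Sga5.H848.TateTwist
import Groth.Agent.Sga5.H855.EtUnit
import Groth.Agent.Sga4h.LocCohLES

/-!
# Purity for regular pairs of locally Noetherian schemes over a field of characteristic zero: Tate twists

For a regular pair `(X, Y)` of codimension `c > 0` with open complement `j : U ⟶ X`:
* `isIso_unit`: `ℤ/n(t) ≅ j_* j^* ℤ/n(t)`;
* `isZero_Rpush`: `R^q j_* j^* ℤ/n(t) = 0` for `q ≠ 0, 2c - 1`.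
-/

set_option autoImplicit false
universe u
open CategoryTheory CategoryTheory.Limits AlgebraicGeometry Opposite

namespace K555.PureTate

open Groth.Agent Groth.Agent.Sga5

theorem isUnit_natCast {X : Scheme.{u}} {k : Type u} [Field k] [CharZero k]
    (qX : X ⟶ Spec (CommRingCat.of k)) {n : ℕ} (hn : n ≠ 0) : IsUnit (n : Γ(X, ⊤)) := by
  have h0 : IsUnit (n : k) := Ne.isUnit (Nat.cast_ne_zero.2 hn)
  have h3 := h0.map ((qX.appTop.hom).comp (Scheme.ΓSpecIso (CommRingCat.of k)).inv.hom)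
  rwa [map_natCast] at h3

variable {X Y U : Scheme.{u}} [IsLocallyNoetherian X]
    {k : Type u} [Field k] [CharZero k] (qX : X ⟶ Spec (CommRingCat.of k))
    (i : Y ⟶ X) [IsClosedImmersion i] (hreg : ∀ y : Y, IsRegularLocalRing (X.presheaf.stalk (i y)))
    (hYreg : ∀ y : Y, IsRegularLocalRing (Y.presheaf.stalk y))
    (j : U ⟶ X) [IsOpenImmersion j] (hij : Set.range j.base = (Set.range i.base)ᶜ)
    (c : ℕ) (hc : 0 < c)
    (hcodim : ∀ y : Y, ringKrullDim (X.presheaf.stalk (i.base y)) = ringKrullDim (Y.presheaf.stalk y) + c)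
    (n : ℕ) (hn : n ≠ 0)

include qX hreg hYreg hij hc hcodim hn

theorem isIso_unit_const : IsIso ((EtCoh.pullPushAdj j).unit.app (EtCoh.const X (ZMod n))) := by
  have h0 : Mono (EtDual.unitApp j (EtCoh.const X (ZMod n))) :=
    (Sga4h.LocCohLES.isZero_locCoh_zero_iff j _).1
      (PureReg.isZero_locCoh qX i hreg hYreg j hij c hc hcodim n hn 0 (by omega))
  have h1 : Epi (EtDual.unitApp j (EtCoh.const X (ZMod n))) :=
    (Sga4h.LocCohLES.isZero_locCoh_one_iff j _).1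
      (PureReg.isZero_locCoh qX i hreg hYreg j hij c hc hcodim n hn 1 (by omega))
  exact isIso_of_mono_of_epi (EtDual.unitApp j (EtCoh.const X (ZMod n)))

/-- `ℤ/n(t) ≅ j_* j^* ℤ/n(t)`. -/
theorem isIso_unit (t : ℕ) : IsIso ((EtCoh.pullPushAdj j).unit.app (EtDual.tate X n t)) := by
  have : NeZero n := ⟨hn⟩
  refine H855.EtUnit.isIso_unit_of_local j _ _ (fun y => ?_)
    (isIso_unit_const qX i hreg hYreg j hij c hc hcodim n hn)
  obtain ⟨V, h, hh, hJ, v, hv, ⟨e⟩⟩ := Sga4h.TateLocal.exists_local_iso n (isUnit_natCast qX hn) t y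
  exact ⟨V, h, hh, v, hv, ⟨((EtpbcA.OverSite.pullIsoRestr h).app _ ≪≫ e ≪≫
    ((EtpbcA.OverSite.pullIsoRestr h).app _).symm).symm⟩⟩

/-- `R^q j_* ℤ/n(t) = 0` for `q ≠ 0, 2c - 1`. -/
theorem isZero_Rpush_tate (t q : ℕ) (hq0 : q ≠ 0) (hq : q ≠ 2 * c - 1) :
    IsZero ((EtCoh.Rpush j q).obj (EtDual.tate U n t)) := by
  have : NeZero n := ⟨hn⟩
  obtain ⟨q, rfl⟩ := Nat.exists_eq_succ_of_ne_zero hq0
  have h1 : IsZero ((EtCoh.Rpush j (q + 1)).obj ((EtCoh.pull j).obj (EtCoh.const X (ZMod n)))) :=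
    (PureReg.isZero_locCoh qX i hreg hYreg j hij c hc hcodim n hn (q + 2) (by omega)).of_iso
      (Sga4h.LocCohLES.locCohSuccIso j (EtCoh.const X (ZMod n)) q)
  have h2 : IsZero ((EtCoh.Rpush j (q + 1)).obj (EtDual.tate U n 0)) :=
    h1.of_iso ((EtCoh.Rpush j (q + 1)).mapIso (EtCore.pullConst j (ZMod n)).symm)
  obtain ⟨e⟩ := H848.TateTwist.nonempty_rpush_tate_add j (isUnit_natCast qX hn) (q + 1) t 0
  exact (TensorZero.isZero_tensorAb _ _ h2).of_iso e

theorem isZero_Rpush (t q : ℕ) (hq0 : q ≠ 0) (hq : q ≠ 2 * c - 1) :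
    IsZero ((EtCoh.Rpush j q).obj ((EtCoh.pull j).obj (EtDual.tate X n t))) := by
  have : NeZero n := ⟨hn⟩
  obtain ⟨-, ⟨e⟩⟩ := H848.TateTwist.nonempty_pull_tate j (isUnit_natCast qX hn) t
  exact (isZero_Rpush_tate qX i hreg hYreg j hij c hc hcodim n hn t q hq0 hq).of_iso
    ((EtCoh.Rpush j q).mapIso e)

end K555.PureTate
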