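import Mathlib.RingTheory.Henselian
import Mathlib.FieldTheory.IsSepClosed
import Mathlib.FieldTheory.IsAlgClosed.Basic
import Mathlib.RingTheory.IntegralClosure.IsIntegralClosure.Basic
import Mathlib.Algebra.Algebra.Rat

/-!
# Algebraically closed subfields of strictly henselian domains containing `ℚ`

`exists_algClosed`: the integral closure of `ℚ` in a strictly henselian local domain containing `ℚ` is an
algebraically closed field.
-/

set_option autoImplicit false
universe u

open Polynomial IsLocalRing

namespace K555.QBar

/-- A strictly henselian local domain containing `ℚ` contains an algebraically closed field. -/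
theorem exists_algClosed (A : Type u) [CommRing A] [IsDomain A] [HenselianLocalRing A]
    [IsSepClosed (ResidueField A)] [Algebra ℚ A] :
    ∃ (k : Type u) (_ : Field k) (_ : Algebra k A), IsAlgClosed k ∧ CharZero k := by
  have htr : ∀ a : A, IsIntegral (integralClosure ℚ A) a → IsIntegral ℚ a := fun a h => isIntegral_trans a h
  have hF : IsField (integralClosure ℚ A) :=
    isField_of_isIntegral_of_isField' (R := ℚ) (Field.toIsField ℚ)
  let _ : Field (integralClosure ℚ A) := hF.toField
  have hc : CharZero (integralClosure ℚ A) := algebraRat.charZero _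
  refine ⟨integralClosure ℚ A, inferInstance, inferInstance, ?_, hc⟩
  refine IsAlgClosed.of_exists_root _ fun p hm hp => ?_
  have hsep : p.Separable := hp.separable
  let q : A[X] := p.map (algebraMap (integralClosure ℚ A) A)
  have hq : q.Monic := hm.map _
  let r : (ResidueField A)[X] := q.map (residue A)
  have hr : r.Separable := (hsep.map).map
  have hdeg : r.degree ≠ 0 := by
    rw [hq.degree_map, hm.degree_map]
    exact (degree_pos_of_irreducible hp).ne'
  obtain ⟨a₀, ha₀⟩ := IsSepClosed.exists_root r hdeg hr
  obtain ⟨b₀, rfl⟩ := residue_surjective a₀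
  have h1 : q.eval b₀ ∈ maximalIdeal A := by
    rw [← residue_eq_zero_iff, ← eval_map_apply]
    exact ha₀
  have h2 : IsUnit (q.derivative.eval b₀) := by
    rw [← residue_ne_zero_iff_isUnit, ← eval_map_apply, ← derivative_map]
    exact hr.eval₂_derivative_ne_zero (RingHom.id _) (by rw [eval₂_id]; exact ha₀)
  obtain ⟨a, ha, -⟩ := HenselianLocalRing.is_henselian q hq b₀ h1 h2
  have h3 : IsIntegral (integralClosure ℚ A) a := ⟨p, hm, by
    rw [← eval_map]; exact ha⟩
  have h4 : IsIntegral ℚ a := htr a h3
  refine ⟨⟨a, h4⟩, ?_⟩
  have h5 : algebraMap (integralClosure ℚ A) A (p.eval ⟨a, h4⟩) = 0 := by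
    rw [← eval_map_apply]
    exact ha
  exact (FaithfulSMul.algebraMap_injective (integralClosure ℚ A) A) (by rw [h5, map_zero])

end K555.QBar
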