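import Groth.Agent.Sga4h.RegDivMain
import Groth.Agent.Sga5.GmR1
import Groth.Agent.Sga5.H848.TateTwist
import Groth.Agent.Sga4h.LocCohLES
import Groth.Agent.S0065
import Groth.Agent.S2821

/-!
# Twisted purity for a regular divisor in a regular locally Noetherian scheme, degree one

`nonempty_iso`: `R¹ j_* ℤ/n(t+1) ≅ i_* ℤ/n(t)`.
-/

set_option autoImplicit false
universe u
open CategoryTheory CategoryTheory.Limits AlgebraicGeometry Opposite

namespace K555.RegDivTate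

open Groth.Agent Groth.Agent.Sga5

variable {X D U : Scheme.{u}} [IsLocallyNoetherian X]
    (hXreg : ∀ x : X, IsRegularLocalRing (X.presheaf.stalk x))
    (n : ℕ) (hn : IsUnit (n : Γ(X, ⊤)))
    (i : D ⟶ X) [IsClosedImmersion i] (hDreg : ∀ y : D, IsRegularLocalRing (D.presheaf.stalk y))
    (hcodim : ∀ y : D, ringKrullDim (X.presheaf.stalk (i y)) = ringKrullDim (D.presheaf.stalk y) + 1)
    (j : U ⟶ X) [IsOpenImmersion j] (hU : Set.range j = (Set.range i)ᶜ)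

include hXreg hn hDreg hcodim hU

theorem nonempty_locCoh : Nonempty ((EtDual.locCoh j 2).obj (EtCoh.mu X n) ≅
    (EtCoh.push i).obj (EtCoh.const D (ZMod n))) := by
  have hreg : Sga4h.RegDiv.IsRegDiv i :=
    ⟨inferInstance, inferInstance, fun y => hXreg _, hDreg, hcodim⟩
  have hufd : ∀ (V : X.Etale) (x : V.left), UniqueFactorizationMonoid (V.left.presheaf.stalk x) := by
    intro V x
    have : Etale (V.hom : V.left ⟶ X) := V.prop
    have : IsRegularLocalRing (V.left.presheaf.stalk x) :=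
      (Groth.Agent.S0065.result (X := V.left) (Y := X) V.hom x).2 (hXreg _)
    exact (Groth.Agent.S2821.result _).2
  have h1 : IsZero ((EtCoh.Rpush j 1).obj ((EtCoh.pull j).obj (EtCoh.Gm X))) :=
    Sga5.GmR1.isZero_Rpush_one j hufd _ (Sga4h.EtaleRes2.pullGm j)
  have h2 : IsZero ((EtDual.locCoh j 2).obj (EtCoh.Gm X)) :=
    h1.of_iso (Sga4h.LocCohLES.locCohSuccIso j (EtCoh.Gm X) 0).symm
  exact (Sga4h.RegDivMain.main hreg hU n hn h2).2.2

/-- `R¹ j_* μ_n ≅ i_* ℤ/n`. -/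
theorem nonempty_Rpush_mu : Nonempty ((EtCoh.Rpush j 1).obj (EtCoh.mu U n) ≅
    (EtCoh.push i).obj (EtCoh.const D (ZMod n))) := by
  obtain ⟨e1⟩ := nonempty_locCoh hXreg n hn i hDreg hcodim j hU
  exact ⟨(EtCoh.Rpush j 1).mapIso (Sga4h.EtaleRes2.pullMu j n).symm ≪≫
    Sga4h.LocCohLES.locCohSuccIso j (EtCoh.mu X n) 0 ≪≫ e1⟩

/-- `R¹ j_* ℤ/n(t+1) ≅ i_* ℤ/n(t)`. -/
theorem nonempty_iso (t : ℕ) :
    Nonempty ((EtCoh.Rpush j 1).obj (EtDual.tate U n (t + 1)) ≅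
      (EtCoh.push i).obj (EtDual.tate D n t)) := by
  obtain ⟨e1⟩ := H848.TateTwist.nonempty_rpush_tate_succ j hn 1 t
  obtain ⟨e2⟩ := nonempty_Rpush_mu hXreg n hn i hDreg hcodim j hU
  obtain ⟨e3⟩ := H848.TateTwist.nonempty_push_tate i hn t
  exact ⟨e1 ≪≫ Sga4h.EtaleRes2.tensorAbIso (Iso.refl _) e2 ≪≫ e3.symm⟩

end K555.RegDivTate
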