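import Groth.Agent.EtDl.K555.BlowGeo
import Groth.Agent.EtDl.K555.GysinTop
import Groth.Agent.EtDl.K555.PureTate
import Groth.Agent.EtDl.K555.RegDivTate
import Groth.Agent.S0126

/-!
# The top local cohomology sheaf of a Tate twist for a regular pair over a field of characteristic zero
-/

set_option autoImplicit false
universe u

open CategoryTheory CategoryTheory.Limits AlgebraicGeometry Opposite

attribute [local instance] HasDerivedCategory.standard

noncomputable section
namespace K555.RegGysin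

open Groth.Agent Groth.Agent.Sga5 Groth.Agent.Sga5.H855 Groth.Agent.Sga5.H855.EtPush
open scoped Groth.Agent.Etcore.EtInst

/-- For a regular pair of codimension `e + 1` over a field of characteristic zero:
`i^* H^{2(e+1)}_Y(X, ℤ/ν(e+1)) ≅ ℤ/ν`. -/
theorem main {X Y U : Scheme.{u}} [IsLocallyNoetherian X] {k : Type u} [Field k] [CharZero k]
    (qX : X ⟶ Spec (CommRingCat.of k)) (i : Y ⟶ X) [IsClosedImmersion i]
    (hreg : ∀ x : X, IsRegularLocalRing (X.presheaf.stalk x))
    (hYreg : ∀ y : Y, IsRegularLocalRing (Y.presheaf.stalk y))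
    (j : U ⟶ X) [IsOpenImmersion j] (hj : Set.range j = (Set.range i)ᶜ) (e : ℕ)
    (hcodim : ∀ y : Y, ringKrullDim (X.presheaf.stalk (i y)) = ringKrullDim (Y.presheaf.stalk y) + (e + 1 : ℕ))
    (ν : ℕ) [NeZero ν] :
    Nonempty ((EtCoh.pull i).obj ((EtDual.locCoh j (2 * (e + 1))).obj (EtDual.tate X ν (e + 1))) ≅
      EtCoh.const Y (ZMod ν)) := by
  obtain ⟨X', b, E, i', π, s, hb, hX', hX'reg, hi', hE, hs, hEreg, hEcodim, hdim⟩ :=
    BlowGeo.exists_blowUp i hreg hYreg j hj e hcodim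
  have hd : IsCompl (Set.range i) (Set.range j) := by rw [hj]; exact isCompl_compl
  have hs' : IsOpenImmersion s := MorphismProperty.of_isPullback hs.flip inferInstance
  have hν : IsUnit (ν : Γ(X, ⊤)) := PureTate.isUnit_natCast qX (NeZero.ne ν)
  have hν' : IsUnit (ν : Γ(X', ⊤)) := PureTate.isUnit_natCast (b ≫ qX) (NeZero.ne ν)
  have hc := isCompl' hs hE hd
  have hsU : Set.range s = (Set.range i')ᶜ := hc.compl_eq.symm
  have hEcodim' : ∀ z : E, ringKrullDim (X'.presheaf.stalk (i' z)) =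
      ringKrullDim (E.presheaf.stalk z) + (1 : ℕ) := by
    intro z; rw [hEcodim z]; norm_num
  have h2 : ∀ t, Nonempty ((EtCoh.Rpush s 1).obj ((EtCoh.pull s).obj ((EtCoh.pull b).obj
      (EtDual.tate X ν (t + 1)))) ≅ (EtCoh.push i').obj (EtDual.tate E ν t)) := by
    intro t
    obtain ⟨-, ⟨a⟩⟩ := H848.TateTwist.nonempty_pull_tate b hν (t + 1)
    obtain ⟨-, ⟨a'⟩⟩ := H848.TateTwist.nonempty_pull_tate s hν' (t + 1)
    obtain ⟨p⟩ := RegDivTate.nonempty_iso hX'reg ν hν' i' hEreg hEcodim s hsU t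
    exact ⟨(EtCoh.Rpush s 1).mapIso ((EtCoh.pull s).mapIso a ≪≫ a') ≪≫ p⟩
  have h3 : ∀ t, EtIter.Hyp b j s (EtDual.tate X ν (t + 1)) (2 * e) := by
    intro t
    obtain ⟨-, ⟨et⟩⟩ := H848.TateTwist.nonempty_pull_tate b hν (t + 1)
    have v := Groth.Agent.S0126.result b e hdim ((EtCoh.pull b).obj (EtDual.tate X ν (t + 1)))
      (Sga4B.TorsionStalks.isTorsion_pull b
        (HcConst.isTorsion_of_killedBy ν (NeZero.ne ν) _ (HcConst.killedBy_tate X ν (t + 1))))
    have p1 := PureTate.isIso_unit qX i (fun y => hreg _) hYreg j hj (e + 1) e.succ_pos hcodim ν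
      (NeZero.ne ν) (t + 1)
    have p2 := PureTate.isZero_Rpush qX i (fun y => hreg _) hYreg j hj (e + 1) e.succ_pos hcodim ν
      (NeZero.ne ν) (t + 1)
    have p3 := PureTate.isIso_unit (b ≫ qX) i' (fun y => hX'reg _) hEreg s hsU 1 one_pos hEcodim' ν
      (NeZero.ne ν) (t + 1)
    have p4 := PureTate.isZero_Rpush (b ≫ qX) i' (fun y => hX'reg _) hEreg s hsU 1 one_pos hEcodim' ν
      (NeZero.ne ν) (t + 1)
    exact
      { h₁ := fun q hq => v q hq
        h₂ := p1
        h₂' := fun q h1 h2 => p2 q (by omega) (by omega)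
        h₂'' := fun q h1 => p2 q (by omega) (by omega)
        h₃ := (NatTrans.isIso_app_iff_of_iso _ et).2 p3
        h₃' := fun q hq => (p4 q (by omega) (by omega)).of_iso
          ((EtCoh.Rpush s q).mapIso ((EtCoh.pull s).mapIso et)) }
  exact GysinTop.nonempty_pull_locCoh_top b i j hd s hs i' π hE ν hν h2 e h3

end K555.RegGysin
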