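import Groth.Agent.EtDl.K555.Params
import Groth.Agent.Sga7.H874.RegParam
import Groth.Agent.Ega4B.GRingLoc
import Groth.Agent.Lefpen.H119.HensMap
import Groth.Agent.S0209
import Groth.Agent.S0537
import Groth.Agent.S0538
import Groth.Agent.S0541
import Groth.Agent.S0598
import Groth.Agent.S0599
import Groth.Agent.S2046
import Groth.Agent.S2743

/-!
# The strict henselization of affine space at the origin

* `isRegularHom_of_quot`: a local homomorphism `R → B` of regular local rings containing `ℚ`, `R` a G-ring, with
  `B ⧸ 𝔪_R B` regular of dimension `dim B - dim R`, is a regular homomorphism.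
* `exists_localOrigin`: the local ring of `𝔸^c_k` at the origin.
* `exists_shOrigin`: for elements `x_1, …, x_c` of the maximal ideal of a strictly henselian `k`-algebra `A` there are
  a strictly henselian regular local G-ring `R` of dimension `c` with regular parameters `t_i` and a local
  homomorphism `R → A`, `t_i ↦ x_i`.
-/

set_option autoImplicit false
universe u

open IsLocalRing MvPolynomial

namespace K555.ShOrigin

theorem isRegularHom_of_quot (R B : Type u) [CommRing R] [CommRing B] [IsRegularLocalRing R]
    [IsRegularLocalRing B] [Algebra R B] [IsLocalHom (algebraMap R B)] [Algebra ℚ R]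
    (hG : CAlg.IsGRing R) (c : ℕ) (t : Fin c → R) (ht : Ideal.span (Set.range t) = maximalIdeal R)
    (hR : ringKrullDim R = c)
    (hreg : IsRegularLocalRing (B ⧸ Ideal.span (Set.range fun i => algebraMap R B (t i))))
    (hdim : ringKrullDim (B ⧸ Ideal.span (Set.range fun i => algebraMap R B (t i))) + c = ringKrullDim B) :
    CAlg.IsRegularHom R B := by
  obtain ⟨e, he⟩ : ∃ e : ℕ, ringKrullDim (B ⧸ Ideal.span (Set.range fun i => algebraMap R B (t i))) = e :=
    ⟨_, (IsRegularLocalRing.spanFinrank_maximalIdeal
      (R := B ⧸ Ideal.span (Set.range fun i => algebraMap R B (t i)))).symm⟩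
  obtain ⟨s, hs1, hs2⟩ := Params.complete_params B c (fun i => algebraMap R B (t i)) hreg e he
  refine Groth.Agent.Sga7.H874.RegParam.isRegularHom_of_parameters R B hG c e t
    (fun i => s (Fin.natAdd c i)) ht hR ?_ ?_
  · rw [← hs2]
    congr 1
    ext w
    constructor
    · rintro (⟨i, rfl⟩ | ⟨i, rfl⟩)
      · exact ⟨Fin.castAdd e i, hs1 i⟩
      · exact ⟨_, rfl⟩
    · rintro ⟨i, rfl⟩
      refine Fin.addCases (fun i => ?_) (fun i => ?_) i
      · exact Or.inl ⟨i, (hs1 i).symm⟩
      · exact Or.inr ⟨i, rfl⟩
  · rw [← hdim, he]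
    push_cast
    rw [add_comm]

/-- The ideal of the origin is maximal. -/
theorem isMaximal_origin (k : Type u) [Field k] (c : ℕ) :
    (Ideal.span (Set.range (X : Fin c → MvPolynomial (Fin c) k))).IsMaximal := by
  have h : Ideal.span (Set.range (X : Fin c → MvPolynomial (Fin c) k)) =
      RingHom.ker (constantCoeff : MvPolynomial (Fin c) k →+* k) := by
    apply le_antisymm
    · rw [Ideal.span_le]
      rintro _ ⟨i, rfl⟩
      exact constantCoeff_X k i
    · intro p hp
      have h2 : ∀ p : MvPolynomial (Fin c) k, p - C (constantCoeff p) ∈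
          Ideal.span (Set.range (X : Fin c → MvPolynomial (Fin c) k)) := by
        intro p
        induction p using MvPolynomial.induction_on with
        | C a => simp
        | add p q hp hq =>
          have e : p + q - C (constantCoeff (p + q)) =
              (p - C (constantCoeff p)) + (q - C (constantCoeff q)) := by
            rw [map_add, map_add]; ring
          rw [e]
          exact Ideal.add_mem _ hp hq
        | mul_X p i hp =>
          have e : constantCoeff (p * X i) = 0 := by simp
          rw [e, map_zero, sub_zero]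
          exact Ideal.mul_mem_left _ _ (Ideal.subset_span ⟨i, rfl⟩)
      have h3 := h2 p
      rw [RingHom.mem_ker] at hp
      rwa [hp, map_zero, sub_zero] at h3
  rw [h]
  exact RingHom.ker_isMaximal_of_surjective _ fun a => ⟨C a, constantCoeff_C _ a⟩

/-- Fields are G-rings. -/
theorem isGRing_field (k : Type u) [Field k] : CAlg.IsGRing k :=
  have : IsAdicComplete (maximalIdeal k) k := by
    rw [IsLocalRing.maximalIdeal_eq_bot]
    infer_instance
  Groth.Agent.S0598.result k

/-- The local ring of affine space at the origin. -/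
theorem exists_localOrigin (k : Type u) [Field k] (c : ℕ) :
    ∃ (R : Type u) (_ : CommRing R) (_ : IsRegularLocalRing R) (_ : Algebra (MvPolynomial (Fin c) k) R),
      ringKrullDim R = c ∧
      Ideal.span (Set.range fun i => algebraMap (MvPolynomial (Fin c) k) R (X i)) = maximalIdeal R ∧
      CAlg.IsGRing R ∧
      ∀ (A : Type u) [CommRing A] [IsLocalRing A] (f : MvPolynomial (Fin c) k →+* A),
        (∀ i, f (X i) ∈ maximalIdeal A) → ∃ (g : R →+* A) (_ : IsLocalHom g),
          g.comp (algebraMap (MvPolynomial (Fin c) k) R) = f := by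
  let P : Ideal (MvPolynomial (Fin c) k) := Ideal.span (Set.range (X : Fin c → MvPolynomial (Fin c) k))
  have hP : P.IsMaximal := isMaximal_origin k c
  let R := Localization.AtPrime P
  let t : Fin c → R := fun i => algebraMap (MvPolynomial (Fin c) k) R (X i)
  have ht : Ideal.span (Set.range t) = maximalIdeal R := by
    rw [← Localization.AtPrime.map_eq_maximalIdeal, Ideal.map_span, ← Set.range_comp]
    rfl
  have hdim : ringKrullDim R = c := by
    rw [IsLocalization.AtPrime.ringKrullDim_eq_height P R, Groth.Agent.S0209.height_eq_of_isMaximal k c P]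
    rfl
  have hspan : (maximalIdeal R).spanFinrank ≤ c := by
    rw [← ht]
    exact le_trans (Submodule.spanFinrank_span_le_ncard_of_finite (Set.finite_range _))
      (Params.ncard_range_le _)
  have hreg : IsRegularLocalRing R :=
    IsRegularLocalRing.of_spanFinrank_maximalIdeal_le _ (by rw [hdim]; exact_mod_cast hspan)
  have hGk : CAlg.IsGRing (MvPolynomial (Fin c) k) := Groth.Agent.S0599.result k (isGRing_field k) _
  have hG : CAlg.IsGRing R := Groth.Agent.Ega4B.GRingLoc.isGRing_of_isLocalization _ R P.primeCompl hGk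
  refine ⟨R, inferInstance, hreg, inferInstance, hdim, ht, hG, fun A _ _ f hf => ?_⟩
  have hcomap : (maximalIdeal A).comap f = P := by
    refine (hP.eq_of_le (Ideal.comap_ne_top _ (maximalIdeal.isMaximal A).ne_top) ?_).symm
    rw [Ideal.span_le]
    rintro _ ⟨i, rfl⟩
    exact hf i
  have hunit : ∀ y : P.primeCompl, IsUnit (f y) := by
    intro y
    by_contra h
    apply y.2
    have : (y : MvPolynomial (Fin c) k) ∈ (maximalIdeal A).comap f := (mem_maximalIdeal _).2 h
    rwa [hcomap] at this
  let g : R →+* A := IsLocalization.lift (M := P.primeCompl) hunit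
  have hg : g.comp (algebraMap _ R) = f := IsLocalization.lift_comp hunit
  refine ⟨g, ((local_hom_TFAE g).out 0 4).2 ?_, hg⟩
  have h1 : (maximalIdeal R) ≤ (maximalIdeal A).comap g := by
    rw [← Localization.AtPrime.map_eq_maximalIdeal, Ideal.map_le_iff_le_comap, Ideal.comap_comap,
      hg, hcomap]
  exact ((maximalIdeal.isMaximal R).eq_of_le (Ideal.comap_ne_top _ (maximalIdeal.isMaximal A).ne_top) h1).symm

/-- The strict henselization of affine space at the origin, mapped to a strictly henselian ring. -/
theorem exists_shOrigin (k : Type u) [Field k] (c : ℕ) (A : Type u) [CommRing A] [HenselianLocalRing A]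
    [IsSepClosed (ResidueField A)] [Algebra k A] (x : Fin c → A) (hx : ∀ i, x i ∈ maximalIdeal A) :
    ∃ (R : Type u) (_ : CommRing R) (_ : IsRegularLocalRing R) (t : Fin c → R) (κ : k →+* R) (δ : R →+* A),
      HenselianLocalRing R ∧ IsSepClosed (ResidueField R) ∧ ringKrullDim R = c ∧
      Ideal.span (Set.range t) = maximalIdeal R ∧ CAlg.IsGRing R ∧ IsLocalHom δ ∧
      (∀ i, δ (t i) = x i) ∧ δ.comp κ = algebraMap k A := by
  obtain ⟨R₀, _, _, _, hd, ht, hG, hR⟩ := exists_localOrigin k c
  obtain ⟨R, _, _, _, _, hsh⟩ := Groth.Agent.S0537.result R₀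
  have h1 : IsRegularLocalRing R := (Groth.Agent.S2743.result R₀ R).2 inferInstance
  obtain ⟨g, _, hg⟩ := hR A (aeval (R := k) x).toRingHom (fun i => by
    change aeval (R := k) x (X i) ∈ _
    rw [aeval_X]
    exact hx i)
  obtain ⟨δ, hδ, hδg⟩ := Groth.Agent.Lefpen.H119.HensMap.exists_lift R₀ R A g
  refine ⟨R, inferInstance, h1, fun i => algebraMap R₀ R (algebraMap (MvPolynomial (Fin c) k) R₀ (X i)),
    (algebraMap R₀ R).comp ((algebraMap (MvPolynomial (Fin c) k) R₀).comp C), δ,
    hsh.henselian, hsh.isSepClosure.sep_closed, ?_, ?_, Groth.Agent.S2046.result hG, hδ, fun i => ?_, ?_⟩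
  · rw [Groth.Agent.S0541.result R₀ R, hd]
  · rw [← Groth.Agent.S0538.result R₀ R, ← ht, Ideal.map_span, ← Set.range_comp]
    rfl
  · rw [← RingHom.comp_apply δ, hδg, ← RingHom.comp_apply g, hg]
    exact aeval_X x i
  · rw [← RingHom.comp_assoc, hδg, ← RingHom.comp_assoc, hg]
    ext a
    exact aeval_C x a

end K555.ShOrigin
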