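import Groth.Agent.EtDl.K555.GysinTop
import Groth.Agent.EtDl.K555.BlowGeo
import Groth.Agent.Sga5.H855.EtMain
import Groth.Agent.Sga5.H855.DivPure
import Groth.Agent.Sga5.H855.Geom2
import Groth.Agent.Lefpen.H496.BlowFibre

/-!
# The top local cohomology sheaf of a Tate twist for a smooth pair over an arbitrary base

`X`, `Y` smooth over `S` of relative dimensions `m + (e + 1)`, `m`, `i : Y ⟶ X` a closed immersion over `S`, `j` the open
complement, `ν` invertible on `S`:
* `exists_data`: the blow-up of `X` along `Y` satisfies the hypotheses of `GysinTop`;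
* `nonempty_locCoh_top`: `H^{2(e+1)}_Y(X, ℤ/ν(e+1)) ≅ i_* ℤ/ν`.
-/

set_option autoImplicit false
universe u

open CategoryTheory CategoryTheory.Limits AlgebraicGeometry Opposite

attribute [local instance] HasDerivedCategory.standard

noncomputable section
namespace K555.SmoothGysin

open Groth.Agent Groth.Agent.Sga5 Groth.Agent.Sga5.H855
open scoped Groth.Agent.Etcore.EtInst

section

variable {X X' U Y S : Scheme.{u}} (i : Y ⟶ X) [IsClosedImmersion i] (b : X' ⟶ X)
  (hb : BlowUp.IsBlowUp b i.ker) (j : U ⟶ X) [IsOpenImmersion j] (hj : Set.range j = (Set.range i)ᶜ)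
  (s : U ⟶ X') (hs : IsPullback s (𝟙 U) b j) {E : Scheme.{u}} (i' : E ⟶ X') (π : E ⟶ Y)
  (hE : IsPullback i' π b i)
  (f₀ : X ⟶ S) (h : Y ⟶ S) (m e : ℕ) [SmoothOfRelativeDimension (m + (e + 1)) f₀]
  [SmoothOfRelativeDimension m h] (w : i ≫ f₀ = h) (ν : ℕ) [NeZero ν] (hν : IsUnit (ν : Γ(S, ⊤)))

include m e hb hE w in
/-- Smoothness of the exceptional divisor. -/
theorem smooth_E : SmoothOfRelativeDimension (m + e) (i' ≫ b ≫ f₀) := by
  have h0 := Geom2.smooth_E i hb f₀ h m e w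
  have h1 : i' ≫ b ≫ f₀ = hE.isoPullback.hom ≫ pullback.fst b i ≫ b ≫ f₀ := by
    rw [IsPullback.isoPullback_hom_fst_assoc]
  rw [h1]
  exact Lefpen.H709.Geo.smoothOfRelDim_etale_comp hE.isoPullback.hom _ _

include m e hb hj hs hE w hν in
theorem hyp (t : ℕ) : EtIter.Hyp b j s (EtDual.tate X ν t) (2 * e) := by
  have hsh : Smooth h := SmoothOfRelativeDimension.smooth m h
  have hsf : Smooth f₀ := SmoothOfRelativeDimension.smooth (m + (e + 1)) f₀
  have hp : IsProper b := Geom.isProper i hb f₀ h w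
  exact EtMain.hyp b i j hj s hs i' π hE f₀ h m e w (Geom2.smooth_X' i hb f₀ h m e w)
    (smooth_E i b hb i' π hE f₀ h m e w)
    (fun x => Lefpen.H496.BlowFibre.topologicalKrullDim_fiber_le_of_closed f₀ h i w m e
      inferInstance inferInstance hb x) ν hν
    (fun g hg t => (H848.TateTwist.nonempty_pull_tate g hg t).2) t

include m e hb hj hs hE w hν in
theorem nonempty_P (t : ℕ) : Nonempty ((EtCoh.Rpush s 1).obj ((EtCoh.pull s).obj ((EtCoh.pull b).obj
      (EtDual.tate X ν (t + 1)))) ≅ (EtCoh.push i').obj (EtDual.tate E ν t)) := by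
  have hi' : IsClosedImmersion i' := MorphismProperty.of_isPullback hE.flip inferInstance
  have hs' : IsOpenImmersion s := MorphismProperty.of_isPullback hs.flip inferInstance
  have hνX : IsUnit (ν : Γ(X, ⊤)) := EtMain.isUnit_pull f₀ ν hν
  have hνX' : IsUnit (ν : Γ(X', ⊤)) := EtMain.isUnit_pull b ν hνX
  have hc := EtPush.isCompl' hs hE (EtMain.isCompl_ranges i j hj)
  have h1 : SmoothOfRelativeDimension (m + e + 1) (b ≫ f₀) := Geom2.smooth_X' i hb f₀ h m e w
  have h2 := smooth_E i b hb i' π hE f₀ h m e w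
  obtain ⟨-, ⟨a⟩⟩ := H848.TateTwist.nonempty_pull_tate b hνX (t + 1)
  obtain ⟨-, ⟨a'⟩⟩ := H848.TateTwist.nonempty_pull_tate s hνX' (t + 1)
  obtain ⟨p⟩ := DivPure.nonempty_iso ν hν (m + e) (b ≫ f₀) (i' ≫ b ≫ f₀) i' rfl s hc.compl_eq.symm t
  exact ⟨(EtCoh.Rpush s 1).mapIso ((EtCoh.pull s).mapIso a ≪≫ a') ≪≫ p⟩

end

/-- **The top local cohomology sheaf for a smooth pair.** -/
theorem nonempty_locCoh_top {X U Y S : Scheme.{u}} (i : Y ⟶ X) [IsClosedImmersion i]
    (j : U ⟶ X) [IsOpenImmersion j] (hj : Set.range j = (Set.range i)ᶜ)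
    (f₀ : X ⟶ S) (h : Y ⟶ S) (m e : ℕ) [SmoothOfRelativeDimension (m + (e + 1)) f₀]
    [SmoothOfRelativeDimension m h] (w : i ≫ f₀ = h) (ν : ℕ) [NeZero ν] (hν : IsUnit (ν : Γ(S, ⊤))) :
    Nonempty ((EtDual.locCoh j (2 * (e + 1))).obj (EtDual.tate X ν (e + 1)) ≅
      (EtCoh.push i).obj (EtCoh.const Y (ZMod ν))) := by
  obtain ⟨X', b, hb⟩ := Flat2C.BlowExist.exists_isBlowUp i.ker
  obtain ⟨s, hs⟩ := BlowGeo.exists_section i hb j hj
  have hE : IsPullback (pullback.fst b i) (pullback.snd b i) b i := IsPullback.of_hasPullback b i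
  have hsh : Smooth h := SmoothOfRelativeDimension.smooth m h
  have hsf : Smooth f₀ := SmoothOfRelativeDimension.smooth (m + (e + 1)) f₀
  have hp : IsProper b := Geom.isProper i hb f₀ h w
  exact GysinTop.nonempty_locCoh_top b i j (EtMain.isCompl_ranges i j hj) s hs _ _ hE ν
    (EtMain.isUnit_pull f₀ ν hν)
    (fun t => nonempty_P i b hb j hj s hs _ _ hE f₀ h m e w ν hν t) e
    (fun t => hyp i b hb j hj s hs _ _ hE f₀ h m e w ν hν (t + 1))

end K555.SmoothGysin
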